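import Groth.Agent.ResProp.EF.K784.Kap
import Groth.Agent.ResProp.EF.K980.Alg
import Groth.Agent.ResProp.EF.K104.MatRep

/-!
# E-side (helper918), model part: operators over `B ⊗ R` on `BC (inr B) K` as operators on `B ⊗[k] K`

`kEnd B : End_{B ⊗ R} (BC (inr B) K) →+* End_B (B ⊗ K)`; naturality in `B`, linearity, commutation with maps, stability of
submodules, and the level `⟨1⟩` form of `Γ`-equivariance (`lev_left`, `lev_right`).
-/

set_option autoImplicit false

universe u v w

open TensorProduct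

noncomputable section

namespace Groth.Agent.ResProp.EF.K918.OpMod

open K980 K784

section One

variable {k : Type u} [CommRing k] {R : Type u} [CommRing R] [Algebra k R]
  {K : Type u} [AddCommGroup K] [Module k K] [Module R K] [IsScalarTower k R K]

variable (B : Type u) [CommRing B] [Algebra k B]

theorem kap_smul (b : B) (z : B ⊗[k] K) :
    kap (R' := R) B K (b • z) = (b ⊗ₜ[k] (1 : R)) • kap (R' := R) B K z := by
  induction z with
  | zero => rw [smul_zero, map_zero, smul_zero]
  | tmul c n =>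
    rw [TensorProduct.smul_tmul', kap_tmul, kap_tmul, smul_smul, Algebra.TensorProduct.tmul_mul_tmul, one_mul]
    rfl
  | add x y hx hy => rw [smul_add, map_add, map_add, smul_add, hx, hy]

/-- multiplication by an element of `R`, as a `k`-linear map -/
def mulR' (r : R) : K →ₗ[k] K := Module.toModuleEnd k (S := R) K r

theorem mulR'_apply (r : R) (v : K) : mulR' (k := k) r v = r • v := rfl

theorem kap_rsmul (r : R) (z : B ⊗[k] K) :
    kap (R' := R) B K ((mulR' (k := k) r).lTensor B z) = ((1 : B) ⊗ₜ[k] r) • kap (R' := R) B K z := by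
  induction z with
  | zero => rw [map_zero, map_zero, smul_zero]
  | tmul c n =>
    rw [LinearMap.lTensor_tmul, kap_tmul, kap_tmul, mulR'_apply, LinearMap.map_smulₛₗ, smul_smul, smul_smul, inr_apply,
      Algebra.TensorProduct.tmul_mul_tmul, Algebra.TensorProduct.tmul_mul_tmul, mul_one, one_mul, one_mul, mul_one]
  | add x y hx hy => rw [map_add, map_add, map_add, smul_add, hx, hy]

variable (R K) in
/-- `B ⊗ K ≃ BC (inr B) K` -/
def kapE : B ⊗[k] K ≃+ BC (inr (k := k) (R' := R) B) K :=
  AddEquiv.ofBijective (kap (R' := R) B K) ⟨kap_injective B K, kap_surjective B K⟩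

theorem kapE_apply (z : B ⊗[k] K) : kapE R K B z = kap (R' := R) B K z := rfl

variable (R K) in
/-- operators over `B ⊗ R` as operators on `B ⊗ K` -/
def kEnd : Module.End (B ⊗[k] R) (BC (inr (k := k) (R' := R) B) K) →+* Module.End B (B ⊗[k] K) where
  toFun a :=
    { toFun := fun z => (kapE R K B).symm (a (kapE R K B z))
      map_add' := fun y z => by rw [map_add, map_add, map_add]
      map_smul' := fun b z => by
        rw [AddEquiv.symm_apply_eq, kapE_apply, kapE_apply, kap_smul, LinearMap.map_smul, RingHom.id_apply, kap_smul,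
          ← kapE_apply (B := B) (z := (kapE R K B).symm _), AddEquiv.apply_symm_apply]
        rfl }
  map_one' := by
    refine LinearMap.ext fun z => ?_
    exact (kapE R K B).symm_apply_apply z
  map_mul' a b := by
    refine LinearMap.ext fun z => ?_
    change (kapE R K B).symm (a (b (kapE R K B z))) =
      (kapE R K B).symm (a (kapE R K B ((kapE R K B).symm (b (kapE R K B z)))))
    rw [AddEquiv.apply_symm_apply]
  map_zero' := by
    refine LinearMap.ext fun z => ?_
    change (kapE R K B).symm 0 = 0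
    rw [map_zero]
  map_add' a b := by
    refine LinearMap.ext fun z => ?_
    change (kapE R K B).symm (a (kapE R K B z) + b (kapE R K B z)) =
      (kapE R K B).symm (a (kapE R K B z)) + (kapE R K B).symm (b (kapE R K B z))
    rw [map_add]

theorem kap_kEnd (a : Module.End (B ⊗[k] R) (BC (inr (k := k) (R' := R) B) K)) (z : B ⊗[k] K) :
    kap (R' := R) B K (kEnd R K B a z) = a (kap (R' := R) B K z) := (kapE R K B).apply_symm_apply _

theorem kEnd_eq {a : Module.End (B ⊗[k] R) (BC (inr (k := k) (R' := R) B) K)} {z w : B ⊗[k] K}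
    (h : a (kap (R' := R) B K z) = kap (R' := R) B K w) : kEnd R K B a z = w :=
  kap_injective (R' := R) B K ((kap_kEnd B a z).trans h)

theorem kEnd_injective : Function.Injective (kEnd (k := k) R K B) := by
  intro a b h
  refine LinearMap.ext fun y => ?_
  obtain ⟨z, rfl⟩ := kap_surjective (k := k) (R' := R) B K y
  rw [← kap_kEnd, ← kap_kEnd, h]

theorem kEnd_smul (b : B) (a : Module.End (B ⊗[k] R) (BC (inr (k := k) (R' := R) B) K)) :
    kEnd R K B ((b ⊗ₜ[k] (1 : R)) • a) = b • kEnd R K B a := by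
  refine LinearMap.ext fun z => ?_
  refine kEnd_eq B ?_
  rw [LinearMap.smul_apply, LinearMap.smul_apply, kap_smul, kap_kEnd]

/-- the scalars -/
theorem kEnd_scalar (b : B) (z : B ⊗[k] K) :
    kEnd R K B ((b ⊗ₜ[k] (1 : R)) • (1 : Module.End (B ⊗[k] R) (BC (inr (k := k) (R' := R) B) K))) z = b • z := by
  rw [kEnd_smul, map_one]
  rfl

/-- operators from the chart -/
theorem kEnd_map (g : K →ₗ[R] K) (g' : K →ₗ[k] K) (hg : ∀ v, g' v = g v) (z : B ⊗[k] K) :
    kEnd R K B (BC.map (inr (k := k) (R' := R) B) g) z = g'.lTensor B z := by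
  refine kEnd_eq B ?_
  induction z with
  | zero => simp only [map_zero]
  | tmul c n => rw [kap_tmul, LinearMap.map_smul, BC.map_bc, LinearMap.lTensor_tmul, kap_tmul, hg]
  | add x y hx hy => simp only [map_add, hx, hy]

/-- maps of modules -/
theorem kap_lTensor {L : Type u} [AddCommGroup L] [Module k L] [Module R L] [IsScalarTower k R L] (g : K →ₗ[R] L)
    (g' : K →ₗ[k] L) (hg : ∀ v, g' v = g v) (z : B ⊗[k] K) :
    kap (R' := R) B L (g'.lTensor B z) = BC.map (inr (k := k) (R' := R) B) g (kap (R' := R) B K z) := by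
  induction z with
  | zero => simp only [map_zero]
  | tmul c n => rw [kap_tmul, LinearMap.map_smul, BC.map_bc, LinearMap.lTensor_tmul, kap_tmul, hg]
  | add x y hx hy => simp only [map_add, hx, hy]

/-- `R`-linearity -/
theorem kEnd_mulR (a : Module.End (B ⊗[k] R) (BC (inr (k := k) (R' := R) B) K)) (r : R) (z : B ⊗[k] K) :
    kEnd R K B a ((mulR' (k := k) r).lTensor B z) = (mulR' (k := k) r).lTensor B (kEnd R K B a z) := by
  refine kEnd_eq B ?_
  rw [kap_rsmul, kap_rsmul, LinearMap.map_smul, kap_kEnd]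

/-- commutation with a linear map of the chart -/
theorem kEnd_comm (a : Module.End (B ⊗[k] R) (BC (inr (k := k) (R' := R) B) K)) (g : K →ₗ[R] K) (g' : K →ₗ[k] K)
    (hg : ∀ v, g' v = g v) (h : ∀ v, a (BC.map (inr (k := k) (R' := R) B) g v) = BC.map (inr (k := k) (R' := R) B) g (a v))
    (z : B ⊗[k] K) : kEnd R K B a (g'.lTensor B z) = g'.lTensor B (kEnd R K B a z) := by
  refine kEnd_eq B ?_
  rw [kap_lTensor B g g' hg, kap_lTensor B g g' hg, h, kap_kEnd]

/-- membership in the base change of a submodule -/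
theorem kap_mem_iff (F : Submodule R K) (F' : Submodule k K) (hF : ∀ v, v ∈ F' ↔ v ∈ F) (z : B ⊗[k] K) :
    z ∈ LinearMap.range (F'.subtype.lTensor B) ↔ kap (R' := R) B K z ∈ subBC (inr (k := k) (R' := R) B) F := by
  constructor
  · rintro ⟨y, rfl⟩
    induction y with
    | zero => rw [map_zero, map_zero]; exact zero_mem _
    | tmul c n =>
      rw [LinearMap.lTensor_tmul, kap_tmul]
      refine Submodule.smul_mem _ _ ⟨bc _ (⟨n, (hF _).1 n.2⟩ : F), ?_⟩
      rw [BC.map_bc]
      rfl
    | add x y hx hy => rw [map_add, map_add]; exact add_mem hx hy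
  · rintro ⟨y, hy⟩
    have key : ∀ y : BC (inr (k := k) (R' := R) B) F, ∃ w : B ⊗[k] F',
        kap (R' := R) B K (F'.subtype.lTensor B w) = BC.map (inr (k := k) (R' := R) B) F.subtype y := by
      intro y
      induction y using BC.ind with
      | h0 => exact ⟨0, by simp only [map_zero]⟩
      | h1 r m =>
        induction r with
        | zero => exact ⟨0, by simp only [map_zero, zero_smul]⟩
        | tmul b r =>
          refine ⟨b ⊗ₜ ⟨r • (m : K), (hF _).2 (F.smul_mem r m.2)⟩, ?_⟩
          rw [LinearMap.lTensor_tmul, kap_tmul, LinearMap.map_smul, BC.map_bc]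
          change (b ⊗ₜ[k] (1 : R)) • bc _ (r • (m : K)) = (b ⊗ₜ[k] r) • bc _ (m : K)
          rw [LinearMap.map_smulₛₗ, smul_smul, inr_apply, Algebra.TensorProduct.tmul_mul_tmul, mul_one, one_mul]
        | add a b ha hb =>
          obtain ⟨x, hx⟩ := ha
          obtain ⟨y, hy⟩ := hb
          exact ⟨x + y, by rw [map_add, map_add, hx, hy, add_smul, map_add]⟩
      | h2 a b ha hb =>
        obtain ⟨x, hx⟩ := ha
        obtain ⟨y, hy⟩ := hb
        exact ⟨x + y, by rw [map_add, map_add, hx, hy, map_add]⟩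
    obtain ⟨w, hw⟩ := key y
    exact ⟨w, kap_injective (R' := R) B K (hw.trans hy)⟩

/-- an operator which maps `BC F` into `BC G` -/
theorem kEnd_mem (a : Module.End (B ⊗[k] R) (BC (inr (k := k) (R' := R) B) K)) (F G : Submodule R K) (F' G' : Submodule k K)
    (hF : ∀ v, v ∈ F' ↔ v ∈ F) (hG : ∀ v, v ∈ G' ↔ v ∈ G)
    (h : ∀ y ∈ subBC (inr (k := k) (R' := R) B) F, a y ∈ subBC (inr (k := k) (R' := R) B) G) (z : B ⊗[k] K)
    (hz : z ∈ LinearMap.range (F'.subtype.lTensor B)) : kEnd R K B a z ∈ LinearMap.range (G'.subtype.lTensor B) := by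
  rw [kap_mem_iff B G G' hG, kap_kEnd]
  exact h _ ((kap_mem_iff B F F' hF z).1 hz)

end One

section Nat

variable {k : Type u} [CommRing k] {R : Type u} [CommRing R] [Algebra k R]
  {K : Type u} [AddCommGroup K] [Module k K] [Module R K] [IsScalarTower k R K]
  {B C : Type u} [CommRing B] [Algebra k B] [CommRing C] [Algebra k C]

theorem kap_rTensor (f : B →ₐ[k] C) (g : B ⊗[k] R →+* C ⊗[k] R) (hg : ∀ b r, g (b ⊗ₜ r) = f b ⊗ₜ r)
    (hx : g.comp (inr (k := k) B) = inr (k := k) C) (z : B ⊗[k] K) :
    kap (R' := R) C K (f.toLinearMap.rTensor K z) = BC.tr g hx (kap (R' := R) B K z) := by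
  induction z with
  | zero => simp only [map_zero]
  | tmul c n =>
    rw [LinearMap.rTensor_tmul, kap_tmul, kap_tmul, LinearMap.map_smulₛₗ, BC.tr_bc, hg]
    rfl
  | add x y hx hy => simp only [map_add, hx, hy]

theorem kEnd_nat (f : B →ₐ[k] C) (g : B ⊗[k] R →+* C ⊗[k] R) (hg : ∀ b r, g (b ⊗ₜ r) = f b ⊗ₜ r)
    (hx : g.comp (inr (k := k) B) = inr (k := k) C)
    (a : Module.End (B ⊗[k] R) (BC (inr (k := k) (R' := R) B) K)) (z : B ⊗[k] K) :
    f.toLinearMap.rTensor K (kEnd R K B a z) = kEnd R K C (BC.pull g hx hx a) (f.toLinearMap.rTensor K z) := by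
  symm
  refine kEnd_eq C ?_
  rw [kap_rTensor f g hg hx, kap_rTensor f g hg hx, BC.pull_tr, kap_kEnd]

end Nat

end Groth.Agent.ResProp.EF.K918.OpMod
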