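import Groth.Agent.ResProp.EF.K458.CochPt
import Groth.Prelude.Def_Hoch

/-!
# From a natural action of the points to a comodule (helper918)

`O` a commutative bialgebra over `L`, flat; `M` an `L`-module.  `PtAct L O M` : for every flat commutative `L`-algebra
`B` and every point `g : O →ₐ[L] B` a `B`-linear endomorphism of `M ⊗ B`, natural in `B`, multiplicative, unital.
* `PtAct.rho` : the coaction `m ↦ σ(id)(m ⊗ 1)`; `PtAct.comod : HopfRep.Comod L O M`;
* `PtAct.act_rho` : `act rho g = σ g`;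
* `PtAct.isComodHom`, `PtAct.isSubcomod` : equivariant maps and stable submodules;
* `PtAct.ext_rho` : a comodule is determined by the action of its points.
-/

set_option autoImplicit false
set_option maxSynthPendingDepth 6

open TensorProduct K458.Coch

namespace Groth.Agent.ResProp.EF.K918

universe u v

variable (L : Type u) [CommRing L] (O : Type u) [CommRing O] [Bialgebra L O]
variable (M : Type v) [AddCommGroup M] [Module L M]

/-- the neutral point -/
noncomputable def unitPt (B : Type u) [CommRing B] [Algebra L B] : O →ₐ[L] B :=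
  (Algebra.ofId L B).comp (Bialgebra.counitAlgHom L O)

/-- a natural action of the points with values in flat algebras -/
structure PtAct where
  σ : ∀ (B : Type u) [CommRing B] [Algebra L B], (O →ₐ[L] B) → (M ⊗[L] B →ₗ[L] M ⊗[L] B)
  lin : ∀ (B : Type u) [CommRing B] [Algebra L B] [Module.Flat L B] (g : O →ₐ[L] B) (w : M ⊗[L] B) (b : B),
    σ B g (mulB M (w ⊗ₜ[L] b)) = mulB M (σ B g w ⊗ₜ[L] b)
  nat : ∀ (B B' : Type u) [CommRing B] [Algebra L B] [Module.Flat L B] [CommRing B'] [Algebra L B']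
    [Module.Flat L B'] (φ : B →ₐ[L] B') (g : O →ₐ[L] B) (w : M ⊗[L] B),
    φ.toLinearMap.lTensor M (σ B g w) = σ B' (φ.comp g) (φ.toLinearMap.lTensor M w)
  mul : ∀ (B : Type u) [CommRing B] [Algebra L B] [Module.Flat L B] (g h : O →ₐ[L] B) (w : M ⊗[L] B),
    σ B (conv g h) w = σ B g (σ B h w)
  one : ∀ (B : Type u) [CommRing B] [Algebra L B] [Module.Flat L B] (w : M ⊗[L] B), σ B (unitPt L O B) w = w

variable {L O M}

namespace PtAct

variable (S : PtAct L O M)

/-- the coaction -/
noncomputable def rho : M →ₗ[L] M ⊗[L] O := S.σ O (AlgHom.id L O) ∘ₗ (TensorProduct.mk L M O).flip 1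

theorem rho_apply (m : M) : S.rho m = S.σ O (AlgHom.id L O) (m ⊗ₜ[L] 1) := rfl

theorem ev1_rho [Module.Flat L O] {B : Type u} [CommRing B] [Algebra L B] [Module.Flat L B] (g : O →ₐ[L] B)
    (m : M) : ev1 g (S.rho m) = S.σ B g (m ⊗ₜ[L] 1) := by
  have h := S.nat O B g (AlgHom.id L O) (m ⊗ₜ[L] 1)
  rw [AlgHom.comp_id, LinearMap.lTensor_tmul, AlgHom.toLinearMap_apply, map_one] at h
  exact h

theorem act_rho [Module.Flat L O] {B : Type u} [CommRing B] [Algebra L B] [Module.Flat L B] (g : O →ₐ[L] B)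
    (w : M ⊗[L] B) : act S.rho g w = S.σ B g w := by
  induction w using TensorProduct.induction_on with
  | zero => simp
  | tmul m b =>
    rw [act_tmul, S.ev1_rho, ← S.lin, mulB_tmul, one_mul]
  | add x y hx hy => simp only [map_add, hx, hy]

theorem rho_assoc [Module.Flat L O] : S.rho.rTensor O ∘ₗ S.rho = dlt L O M ∘ₗ S.rho := by
  refine LinearMap.ext fun m => ev2_ext ?_
  rw [LinearMap.comp_apply, LinearMap.comp_apply, ev2_rT, ev2_dlt, S.ev1_rho, S.act_rho, S.ev1_rho, S.mul]

theorem rho_counit [Module.Flat L O] :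
    (Coalgebra.counit (R := L) (A := O)).lTensor M ∘ₗ S.rho = (TensorProduct.mk L M L).flip 1 := by
  refine LinearMap.ext fun m => ?_
  have h := S.ev1_rho (unitPt L O L) m
  rw [S.one] at h
  rw [LinearMap.comp_apply]
  refine Eq.trans ?_ h
  congr 1

/-- the comodule -/
@[reducible] noncomputable def comod [Module.Flat L O] : HopfRep.Comod L O M where
  coact := S.rho
  coassoc := by
    have h := S.rho_assoc
    refine LinearMap.ext fun m => ?_
    have h1 := LinearMap.congr_fun h m
    simp only [LinearMap.comp_apply, LinearEquiv.coe_coe] at h1 ⊢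
    rw [h1]
    change TensorProduct.assoc L M O O (dlt L O M (S.rho m)) = _
    generalize S.rho m = y
    induction y using TensorProduct.induction_on with
    | zero => simp
    | tmul n a => simp [dlt_tmul]
    | add x y hx hy => simp only [map_add, hx, hy]
  counit_comp := S.rho_counit

theorem coact_eq [Module.Flat L O] : S.comod.coact = S.rho := rfl

/-- equivariant maps are comodule maps -/
theorem isComodHom [Module.Flat L O] {M' : Type v} [AddCommGroup M'] [Module L M'] (S' : PtAct L O M')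
    (f : M →ₗ[L] M') (hf : ∀ w : M ⊗[L] O, f.rTensor O (S.σ O (AlgHom.id L O) w) =
      S'.σ O (AlgHom.id L O) (f.rTensor O w)) :
    @Hoch.IsComodHom L _ O _ _ _ M _ _ S.comod M' _ _ S'.comod f := by
  refine LinearMap.ext fun m => ?_
  have h := hf (m ⊗ₜ 1)
  rw [LinearMap.rTensor_tmul] at h
  exact h.symm

/-- stable submodules are subcomodules -/
theorem rho_mem (N : Submodule L M) (hN : ∀ w ∈ LinearMap.range (N.subtype.rTensor O),
    S.σ O (AlgHom.id L O) w ∈ LinearMap.range (N.subtype.rTensor O)) {m : M} (hm : m ∈ N) :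
    S.rho m ∈ LinearMap.range (N.subtype.rTensor O) :=
  hN _ ⟨(⟨m, hm⟩ : N) ⊗ₜ 1, by simp⟩

end PtAct

/-- a coaction gives an action of the points -/
noncomputable def PtAct.ofRho (ρ : M →ₗ[L] M ⊗[L] O) (hρ : ρ.rTensor O ∘ₗ ρ = dlt L O M ∘ₗ ρ)
    (hε : (Coalgebra.counit (R := L) (A := O)).lTensor M ∘ₗ ρ = (TensorProduct.mk L M L).flip 1) : PtAct L O M where
  σ _ _ _ g := act ρ g
  lin _ _ _ _ g w b := act_mulB ρ g w b
  nat _ _ _ _ _ _ _ _ φ g w := act_map φ ρ g w
  mul _ _ _ _ g h w := act_conv hρ g h w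
  one _ _ _ _ w := act_unit hε w

theorem PtAct.rho_ofRho (ρ : M →ₗ[L] M ⊗[L] O) (hρ : ρ.rTensor O ∘ₗ ρ = dlt L O M ∘ₗ ρ)
    (hε : (Coalgebra.counit (R := L) (A := O)).lTensor M ∘ₗ ρ = (TensorProduct.mk L M L).flip 1) :
    (PtAct.ofRho ρ hρ hε).rho = ρ := by
  refine LinearMap.ext fun m => ?_
  change act ρ (AlgHom.id L O) (m ⊗ₜ[L] 1) = ρ m
  rw [← K458.Coch.ev1_rho, ev1_id]

/-- two coactions with the same universal point action are equal -/
theorem rho_ext {ρ ρ' : M →ₗ[L] M ⊗[L] O} (h : ∀ m : M, act ρ (AlgHom.id L O) (m ⊗ₜ[L] 1) =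
    act ρ' (AlgHom.id L O) (m ⊗ₜ[L] 1)) : ρ = ρ' := by
  refine LinearMap.ext fun m => ?_
  have := h m
  rwa [← K458.Coch.ev1_rho, ← K458.Coch.ev1_rho, ev1_id, ev1_id] at this

end Groth.Agent.ResProp.EF.K918
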