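import Groth.Agent.ResProp.EF.K918.OpTh
import Groth.Agent.ResProp.EF.K698.GrK

/-!
# E-side (helper918): the action of helper60's `gamPkg` on `K`

`gamAct : OpAct (gamPkg ..) X.K`, `gamHyp : OpHyp s gamAct` (with `s.σ = ψ`), commutation of the operators with maps of the
complex (`d`, `pr i`).
-/

set_option autoImplicit false
set_option linter.dupNamespace false

open CategoryTheory Opposite TensorProduct

noncomputable section

namespace Groth.Agent.ResProp.EF.K918.ActGam

open K784.BC K784.PM K741.RP EF56 K980 K980.BC Grp Arch K104 K208 K649 K661 K959 K959.CoBC K60 ESide OpTh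

universe u

section E0

variable {R : Type u} [CommRing R] {s0 : R →+* R} (hid : ∀ r, s0 r = r) (K : Type u) [AddCommGroup K] [Module R K]

/-- `BC s0 K ≃ K` for `s0 = id` -/
def e0L : BC s0 K →ₗ[R] K :=
  BC.lift (σ := RingHom.id R) (τ := s0) (RingHom.id_comp s0)
    { toFun := fun m => m
      map_add' := fun _ _ => rfl
      map_smul' := fun r m => by rw [hid] }

theorem e0L_bc (m : K) : e0L hid K (bc s0 m) = m := BC.lift_bc _ _ m

theorem bc_e0L (z : BC s0 K) : bc s0 (e0L hid K z) = z := by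
  induction z using BC.ind with
  | h0 => rw [map_zero, map_zero]
  | h1 r m => rw [map_smul, e0L_bc, LinearMap.map_smulₛₗ, hid]
  | h2 a b ha hb => rw [map_add, map_add, ha, hb]

/-- `BC s0 K ≃ K` for `s0 = id` -/
def e0 : BC s0 K ≃ₗ[R] K :=
  LinearEquiv.ofBijective (e0L hid K)
    ⟨fun a b h => by
      have h' : e0L hid K a = e0L hid K b := h
      rw [← bc_e0L hid K a, h', bc_e0L], fun m => ⟨bc s0 m, e0L_bc hid K m⟩⟩

theorem e0_bc (m : K) : e0 hid K (bc s0 m) = m := e0L_bc hid K m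

end E0

/-! ### the coaction of an operator and its base change -/

section CoB

variable {k : Type u} [CommRing k] {R R' : Type u} [CommRing R] [CommRing R'] [Algebra k R] [Algebra k R']
  {K : Type u} [AddCommGroup K] [Module R K] [Module k K] [IsScalarTower k R K] {s0 : R →+* R} (hid : ∀ r, s0 r = r)
  {x : R →+* R'} [Module k (BC x K)] [IsScalarTower k R' (BC x K)] (φ : R →ₐ[k] R') (h : (φ : R →+* R').comp s0 = x)
  (hx : ∀ r : k, x (algebraMap k R r) = algebraMap k R' r) (B : Type u) [CommRing B] [Algebra k B]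

include hid in
theorem p_e0 (z : BC s0 K) : toK hx (bc x : K →ₛₗ[x] BC x K) (e0 hid K z) =
    (LinearEquiv.refl R' (BC x K)) (BC.tr (φ : R →+* R') h z) := by
  rw [toK_apply, LinearEquiv.refl_apply]
  induction z using BC.ind with
  | h0 => simp only [map_zero]
  | h1 r m =>
    rw [map_smul, e0_bc, LinearMap.map_smulₛₗ, LinearMap.map_smulₛₗ, BC.tr_bc]
    congr 1
    rw [← h, RingHom.comp_apply, hid]
  | h2 a b ha hb => simp only [map_add, ha, hb]

theorem dOp_inter {k : Type u} [CommRing k] {B : Type u} [CommRing B] [Algebra k B] {M : Type u} [AddCommGroup M]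
    [Module k M] {M' : Type u} [AddCommGroup M'] [Module k M'] {S : Module.End B (B ⊗[k] M)}
    {S' : Module.End B (B ⊗[k] M')} (q : M →ₗ[k] M') (h : ∀ y, q.lTensor B (S y) = S' (q.lTensor B y)) (m : M) :
    dOp S' (q m) = q.rTensor B (dOp S m) := by
  have h1 := h (1 ⊗ₜ m)
  rw [LinearMap.lTensor_tmul] at h1
  rw [dOp_apply, dOp_apply, ← h1]
  generalize S (1 ⊗ₜ m) = x
  induction x with
  | zero => simp
  | add x y hx hy => simp only [map_add, hx, hy]
  | tmul b m => simp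

theorem coB_kE (a : Module.End (B ⊗[k] R) (BC (pB k s0 B) K))
    (lin : ∀ (r : R) (m : K), dOp (kE (e0 hid K) B a) (r • m) =
      (mul k K r).rTensor B (dOp (kE (e0 hid K) B a) m)) (z : BC x K) :
    coB hx (dOp (kE (e0 hid K) B a)) lin z = dOp (kE (LinearEquiv.refl R' (BC x K)) B
      (BC.pull (mG k φ B) (mG_comp_pB k φ h B) (mG_comp_pB k φ h B) a)) z := by
  induction z using BC.ind with
  | h0 => simp only [map_zero]
  | h1 r m =>
    have h2 := (kE_lin (LinearEquiv.refl R' (BC x K)) B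
      (BC.pull (mG k φ B) (mG_comp_pB k φ h B) (mG_comp_pB k φ h B) a) r).dOp (bc x m)
    rw [mul_apply] at h2
    rw [coB_smul, h2]
    congr 1
    rw [coB_bc]
    exact (dOp_inter (toK hx (bc x : K →ₛₗ[x] BC x K)) (fun y => kE_pt (e0 hid K) (LinearEquiv.refl R' (BC x K)) φ h
      (toK hx (bc x : K →ₛₗ[x] BC x K)) (p_e0 hid φ h hx) B a y) m).symm
  | h2 a b ha hb => simp only [map_add, ha, hb]

end CoB

/-! ### the action of `gamPkg` -/

section Act

variable {k : Type u} [CommRing k] {R G1 : Type u} [CommRing R] [CommRing G1] [Algebra k R]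
  [Algebra k G1] {P : PGpd.{u} R} {s0 : R →+* R} (hid : ∀ r, s0 r = r) {s t : R →+* G1} {H : GFun k}
  {f0 f1 : R →ₐ[k] G1}
  {h0 : (f0 : R →+* G1).comp s0 = s} {h1 : (f1 : R →+* G1).comp s0 = t}
  {X : AlgPkg P} {hs0 : s0.Flat} {hs : s.Flat} {ht : t.Flat} {act : HAct k P s0 H}
  {γ : P.Hom s t} {ψ : BC s X.K ≃ₗ[G1] BC t X.K} {hψ : ψ ∈ X.L γ}
  {hne : ∀ (B : Type u) [CommRing B] [Algebra k B] [Module.Flat k B] (h : H.pt B),
    ∃ g ∈ X.L (act.app B h), CommB k f0 f1 h0 h1 X ψ B g.toLinearMap}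
  [Module k X.K] [IsScalarTower k R X.K]

/-- **the action of `gamPkg` on `K`** -/
def gamAct : OpAct (gamPkg k f0 f1 h0 h1 X hs0 hs ht act hψ hne) X.K where
  κ B _ _ := (kE (e0 hid X.K) B).comp
    ((eqAA (uHom k f0 h0 X hs0 hs act) (vHom k f1 h1 X hs0 hs ht act hψ) B).val.toRingHom)
  alg B _ _ _ b y := by
    change kE (e0 hid X.K) B (algebraMap B (AAf k X.toOpCpx s0 B) b) y = b • y
    rw [algAAf_algebraMap]
    exact kE_scalar (e0 hid X.K) B b y
  nat {B C} _ _ _ _ _ _ f a y := kE_nat (e0 hid X.K) f _ y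

theorem gamAct_κ (B : Type u) [CommRing B] [Algebra k B]
    (a : (gamPkg k f0 f1 h0 h1 X hs0 hs ht act hψ hne).AA B) :
    (gamAct hid).κ B a = kE (e0 hid X.K) B (a.1 : AAf k X.toOpCpx s0 B) := rfl

/-- the operator over `B ⊗ R` -/
def aval (B : Type u) [CommRing B] [Algebra k B] (a : (gamPkg k f0 f1 h0 h1 X hs0 hs ht act hψ hne).AA B) :
    BC (pB k s0 B) X.K →ₗ[B ⊗[k] R] BC (pB k s0 B) X.K := (a.1 : AAf k X.toOpCpx s0 B)

theorem gamAct_κ' (B : Type u) [CommRing B] [Algebra k B]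
    (a : (gamPkg k f0 f1 h0 h1 X hs0 hs ht act hψ hne).AA B) :
    (gamAct hid).κ B a = kE (e0 hid X.K) B (aval B a) := rfl

omit [Module k X.K] [IsScalarTower k R X.K] in
theorem comm_of_mem (B : Type u) [CommRing B] [Algebra k B]
    (a : (gamPkg k f0 f1 h0 h1 X hs0 hs ht act hψ hne).AA B) :
    CommB k f0 f1 h0 h1 X ψ B (aval B a) :=
  (uv_iff k f0 f1 h0 h1 X ψ B _).1 ((AlgHom.mem_equalizer _ _ _).1 a.2)

omit [Module k X.K] [IsScalarTower k R X.K] in
/-- lifts -/
theorem lift_spec (B : Type u) [CommRing B] [Algebra k B] (h : H.pt B)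
    (φ : ((gamPkg k f0 f1 h0 h1 X hs0 hs ht act hψ hne).AA B)ˣ)
    (hφ : φ ∈ (gamPkg k f0 f1 h0 h1 X hs0 hs ht act hψ hne).Lift B h) :
    ∃ g ∈ X.L (act.app B h), ∀ v, aval B (φ : (gamPkg k f0 f1 h0 h1 X hs0 hs ht act hψ hne).AA B) v = g v :=
  ⟨_, hφ, fun _ => rfl⟩

omit [Module k X.K] [IsScalarTower k R X.K] in
/-- operators of `DD¹` -/
theorem opD_spec (B : Type u) [CommRing B] [Algebra k B]
    (Y : (gamPkg k f0 f1 h0 h1 X hs0 hs ht act hψ hne).AA B)
    (hY : Y ∈ opD (gamPkg k f0 f1 h0 h1 X hs0 hs ht act hψ hne) B 1) :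
    aval B Y ∈ X.DDx (pB k s0 B) 1 := by
  obtain ⟨y, rfl⟩ := mem_opD_one _ |>.1 hY
  refine iotaf_mem k X.toOpCpx s0 B 1 (((eqD (uHom k f0 h0 X hs0 hs act)
    (vHom k f1 h1 X hs0 hs ht act hψ)).subtype.baseChange B) y) ?_
  have h1 : Fk k X.toOpCpx s0 1 = ⊤ := by
    rw [eq_top_iff]
    intro T _
    exact T.2
  rw [h1, Submodule.baseChange_top]
  trivial

theorem gam_lin (B : Type u) [CommRing B] [Algebra k B]
    (a : (gamPkg k f0 f1 h0 h1 X hs0 hs ht act hψ hne).AA B) (r : R) :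
    Cm (mul k X.K r) ((gamAct hid).κ B a) := kE_lin (e0 hid X.K) B _ r

theorem equi_of_comm [Module k (BC s X.K)] [IsScalarTower k G1 (BC s X.K)] [Module k (BC t X.K)]
    [IsScalarTower k G1 (BC t X.K)]
    (hxs : ∀ r : k, s (algebraMap k R r) = algebraMap k G1 r) (hxt : ∀ r : k, t (algebraMap k R r) = algebraMap k G1 r)
    (B : Type u) [CommRing B] [Algebra k B] (L : AAf k X.toOpCpx s0 B) (hL : CommB k f0 f1 h0 h1 X ψ B L)
    (lin : ∀ (r : R) (m : X.K), dOp (kE (e0 hid X.K) B L) (r • m) =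
      (mul k X.K r).rTensor B (dOp (kE (e0 hid X.K) B L) m)) (z : BC s X.K) :
    coB hxt (dOp (kE (e0 hid X.K) B L)) lin (ψ z) =
      (ψ.toLinearMap.restrictScalars k).rTensor B (coB hxs (dOp (kE (e0 hid X.K) B L)) lin z) := by
  rw [coB_kE hid f1 h1 hxt B L lin, coB_kE hid f0 h0 hxs B L lin]
  refine dOp_inter (ψ.toLinearMap.restrictScalars k) (fun y => ?_) z
  refine kE_iso (LinearEquiv.refl G1 (BC s X.K)) (LinearEquiv.refl G1 (BC t X.K)) ψ.toLinearMap
    (ψ.toLinearMap.restrictScalars k) (fun _ => rfl) B _ _ (fun v => ?_) y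
  exact LinearMap.congr_fun hL v

/-- operators commute with maps of the complex -/
theorem gam_cm (B : Type u) [CommRing B] [Algebra k B]
    (a : (gamPkg k f0 f1 h0 h1 X hs0 hs ht act hψ hne).AA B) (g : X.K →ₗ[R] X.K) (g' : X.K →ₗ[k] X.K)
    (hg : ∀ v, g' v = g v)
    (h : ∀ v, aval B a (BC.map (pB k s0 B) g v) = BC.map (pB k s0 B) g (aval B a v)) :
    Cm g' ((gamAct hid).κ B a) :=
  kE_comm (e0 hid X.K) B _ g g' (fun z => by
    induction z using BC.ind with
    | h0 => simp only [map_zero]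
    | h1 r m => rw [_root_.map_smul, e0_bc, ← mul_apply (k := k), hg, LinearMap.map_smul, mul_apply,
        LinearMap.map_smul, _root_.map_smul, map_bc, e0_bc]
    | h2 a b ha hb => simp only [map_add, ha, hb]) h

/-- `DDx 1` commutes with every map that commutes with `DD 1` -/
theorem ddx_comm {x : R →+* G1} (g : X.K →ₗ[R] X.K) (hg : ∀ T ∈ X.DD 1, ∀ v, T (g v) = g (T v))
    {T : BC x X.K →ₗ[G1] BC x X.K} (hT : T ∈ X.DDx x 1) (v : BC x X.K) : T (BC.map x g v) = BC.map x g (T v) := by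
  refine DDx_induction X.toOpCpx x 1 (p := fun T => T (BC.map x g v) = BC.map x g (T v)) ?_ (fun r S hS => ?_)
    (fun a b ha hb => ?_) hT
  · simp only [LinearMap.zero_apply, map_zero]
  · simp only [LinearMap.smul_apply, map_smul]
    rw [BC.map_map, BC.map_map]
    congr 3
    exact LinearMap.ext (hg S hS)
  · simp only [LinearMap.add_apply, map_add, ha, hb]

end Act

end Groth.Agent.ResProp.EF.K918.ActGam
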