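import Groth.Agent.ResProp.EF.K918.GrH3
import Groth.Agent.ResProp.EF.K431.GluedAlg

/-!
# `StmtESide` (AD1 + AD2 + AD3 + G5 + E-side)
-/

set_option autoImplicit false
set_option linter.dupNamespace false

open CategoryTheory Opposite TensorProduct

namespace Groth.Agent.ResProp.EF.K918

open K980 K303 K363 GrE GrH3 Arch

universe u

/-- **the E-side exists for every output of the producer** -/
theorem stmtESide : StmtESide.{u} := by
  intro p k _ _ A _ x c o
  have hA : EF56.GR A := GRF.gr k
  obtain ⟨ψ, hc, hψ, hG, hcl⟩ := K431.exists_glued_algOut o hA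
  exact ⟨descA hA ψ hc, hG, StmtE.eside_of o hA ψ hψ hcl hc (fun m => cc0 o m)
    (fun m B _ _ _ g => hh1 o hA ψ hψ hcl m B g) (fun m B _ _ _ => hh2 o hA ψ hψ hcl m B)
    (fun m q y hy g => hh3 o m q y hy g)⟩

end Groth.Agent.ResProp.EF.K918
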