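import Groth.Agent.ResProp.EF.Arch
import Groth.Agent.ResProp.EF.K686.DD2

/-!
# SOBJ (helper918), part E: group actions on a cartesian presheaf of modules from the chart

`M : PM A` cartesian.  An `E`-coaction `e0` on `M⟨0⟩` which is `A⟨0⟩`-linear and whose `A⟨1⟩`-linear extension along the
first vertex is also its extension along the second vertex (`Lev1`), extends to all `M⟨a⟩`: `ECo.ofChart`.
-/

set_option autoImplicit false
set_option linter.dupNamespace false

open CategoryTheory Opposite TensorProduct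

noncomputable section

namespace Groth.Agent.ResProp.EF.K918.SObj

open K784.BC K784.PM EF56 Grp Arch K686

universe u

variable {k : Type u} [CommRing k] {A : NFᵒᵖ ⥤ CommRingCat.{u}} [GRF k A]

section Lin

variable {O : Type u} [AddCommGroup O] [Module k O]

theorem mulk_rTensor (M : PM.{u} A) (a : NF) (r : A.obj (op a)) (w : M.obj a ⊗[k] O) :
    (mulk (k := k) M a r).rTensor O w = r • w := by
  induction w using TensorProduct.induction_on with
  | zero => simp
  | tmul m x => rfl
  | add x y hx hy => simp only [map_add, smul_add, hx, hy]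

theorem mapk_apply (M : PM.{u} A) {a b : NF} (φ : a ⟶ b) (m : M.obj b) : mapk (k := k) M φ m = M.map φ m := rfl

theorem mapk_rTensor_smul (M : PM.{u} A) {a b : NF} (φ : a ⟶ b) (r : A.obj (op b)) (w : M.obj b ⊗[k] O) :
    (mapk (k := k) M φ).rTensor O (r • w) = rg A φ r • (mapk (k := k) M φ).rTensor O w := by
  induction w using TensorProduct.induction_on with
  | zero => simp
  | tmul m x =>
    rw [TensorProduct.smul_tmul', LinearMap.rTensor_tmul, LinearMap.rTensor_tmul, TensorProduct.smul_tmul',
      mapk_apply, mapk_apply, M.map_smul]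
  | add x y hx hy => simp only [map_add, smul_add, hx, hy]

theorem mapk_comp (M : PM.{u} A) {a b c : NF} (ψ : a ⟶ b) (φ : b ⟶ c) (w : M.obj c ⊗[k] O) :
    (mapk (k := k) M (ψ ≫ φ)).rTensor O w = (mapk (k := k) M ψ).rTensor O ((mapk (k := k) M φ).rTensor O w) := by
  rw [← LinearMap.comp_apply, ← LinearMap.rTensor_comp]
  congr 2
  exact LinearMap.ext fun m => M.map_comp ψ φ m

/-- the extension of a linear family on `M⟨0⟩` along the vertex `0` -/
theorem exists_ext0 {M : PM.{u} A} (hM : M.Cart) (e0 : M.obj ⟨0⟩ →ₗ[k] M.obj ⟨0⟩ ⊗[k] O)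
    (he0 : ∀ (r : A.obj (op ⟨0⟩)) (m : M.obj ⟨0⟩), e0 (r • m) = r • e0 m) (a : NF) (i : Fin (a.n + 1)) :
    ∃ c : M.obj a →ₗ[A.obj (op a)] M.obj a ⊗[k] O,
      ∀ m, c (M.map (pt a i) m) = (mapk (k := k) M (pt a i)).rTensor O (e0 m) := by
  obtain ⟨c, hc, -⟩ := (hM (pt a i)).existsUnique_lift
    (((mapk (k := k) M (pt a i)).rTensor O ∘ₗ e0).toAddMonoidHom) (fun r m => by
      change (mapk (k := k) M (pt a i)).rTensor O (e0 (r • m)) = rg A (pt a i) r • (mapk (k := k) M (pt a i)).rTensor O (e0 m)
      rw [he0, mapk_rTensor_smul])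
  exact ⟨c, hc⟩

end Lin

/-- the compatibility of a coaction on `M⟨0⟩` with the `Γ`-coaction -/
def Lev1 {O : Type u} [AddCommGroup O] [Module k O] (M : PM.{u} A) (e0 : M.obj ⟨0⟩ →ₗ[k] M.obj ⟨0⟩ ⊗[k] O) : Prop :=
  ∃ c : M.obj ⟨1⟩ →ₗ[A.obj (op ⟨1⟩)] M.obj ⟨1⟩ ⊗[k] O,
    (∀ m, c (M.map (p1 (n := 1) 0) m) = (mapk (k := k) M (p1 (n := 1) 0)).rTensor O (e0 m)) ∧
    ∀ m, c (M.map (p1 (n := 1) 1) m) = (mapk (k := k) M (p1 (n := 1) 1)).rTensor O (e0 m)

section Ext

variable {O : Type u} [AddCommGroup O] [Module k O] {M : PM.{u} A} (hM : M.Cart)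
  {e0 : M.obj ⟨0⟩ →ₗ[k] M.obj ⟨0⟩ ⊗[k] O} (he0 : ∀ (r : A.obj (op ⟨0⟩)) (m : M.obj ⟨0⟩), e0 (r • m) = r • e0 m)

/-- the extension to level `a` -/
def coA (a : NF) : M.obj a →ₗ[A.obj (op a)] M.obj a ⊗[k] O := (exists_ext0 hM e0 he0 a 0).choose

theorem coA_spec (a : NF) (m : M.obj ⟨0⟩) :
    coA hM he0 a (M.map (pt a 0) m) = (mapk (k := k) M (pt a 0)).rTensor O (e0 m) :=
  (exists_ext0 hM e0 he0 a 0).choose_spec m

include hM in
/-- `A⟨a⟩`-semilinear maps on `M⟨b⟩` agree if they agree on a vertex -/
theorem semi_eq {a b : NF} (φ : a ⟶ b) (i : Fin (b.n + 1)) {Q : Type u} [AddCommGroup Q] [Module (A.obj (op a)) Q]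
    {f g : M.obj b →+ Q} (hf : Semi (rg A φ) f) (hg : Semi (rg A φ) g)
    (e : ∀ m, f (M.map (pt b i) m) = g (M.map (pt b i) m)) (m : M.obj b) : f m = g m :=
  congr($((hM (pt b i)).semi_ext hf hg e) m)

theorem coA_edge (a : NF) (i : Fin (a.n + 1)) (h1 : Lev1 M e0) (m : M.obj ⟨0⟩) :
    coA hM he0 a (M.map (pt a i) m) = (mapk (k := k) M (pt a i)).rTensor O (e0 m) := by
  obtain ⟨c, hc0, hc1⟩ := h1
  have key : ∀ y : M.obj ⟨1⟩, coA hM he0 a (M.map (p2 0 i) y) = (mapk (k := k) M (p2 0 i)).rTensor O (c y) := by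
    intro y
    refine semi_eq hM (p2 0 i) (0 : Fin 2) (f := (coA hM he0 a).toAddMonoidHom.comp (M.map (p2 0 i)))
      (g := ((mapk (k := k) M (p2 0 i)).rTensor O).toAddMonoidHom.comp c.toAddMonoidHom)
      (fun r m => ?_) (fun r m => ?_) (fun m => ?_) y
    · change coA hM he0 a (M.map (p2 0 i) (r • m)) = rg A (p2 0 i) r • coA hM he0 a (M.map (p2 0 i) m)
      rw [M.map_smul, LinearMap.map_smul]
    · change (mapk (k := k) M (p2 0 i)).rTensor O (c (r • m)) = rg A (p2 0 i) r • (mapk (k := k) M (p2 0 i)).rTensor O (c m)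
      rw [LinearMap.map_smul, mapk_rTensor_smul]
    · change coA hM he0 a (M.map (p2 0 i) (M.map (p1 (n := 1) 0) m)) =
        (mapk (k := k) M (p2 0 i)).rTensor O (c (M.map (p1 (n := 1) 0) m))
      rw [hc0, ← mapk_comp, ← M.map_comp, p2_p1_zero]
      exact coA_spec hM he0 a m
  have h2 := key (M.map (p1 (n := 1) 1) m)
  rw [hc1, ← mapk_comp, ← M.map_comp, p2_p1_one] at h2
  exact h2

theorem coA_nat (h1 : Lev1 M e0) {a b : NF} (φ : a ⟶ b) (m : M.obj b) :
    coA hM he0 a (M.map φ m) = (mapk (k := k) M φ).rTensor O (coA hM he0 b m) := by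
  refine semi_eq hM φ (0 : Fin (b.n + 1)) (f := (coA hM he0 a).toAddMonoidHom.comp (M.map φ))
    (g := ((mapk (k := k) M φ).rTensor O).toAddMonoidHom.comp (coA hM he0 b).toAddMonoidHom)
    (fun r m => ?_) (fun r m => ?_) (fun m => ?_) m
  · change coA hM he0 a (M.map φ (r • m)) = rg A φ r • coA hM he0 a (M.map φ m)
    rw [M.map_smul, LinearMap.map_smul]
  · change (mapk (k := k) M φ).rTensor O (coA hM he0 b (r • m)) = rg A φ r • (mapk (k := k) M φ).rTensor O (coA hM he0 b m)
    rw [LinearMap.map_smul, mapk_rTensor_smul]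
  · change coA hM he0 a (M.map φ (M.map (pt b 0) m)) = (mapk (k := k) M φ).rTensor O (coA hM he0 b (M.map (pt b 0) m))
    rw [coA_spec, ← mapk_comp, ← M.map_comp]
    have e : φ ≫ pt b 0 = pt a ((show Fin (b.n + 1) → Fin (a.n + 1) from φ) 0) := rfl
    rw [e]
    exact coA_edge hM he0 a _ h1 m

end Ext

section Lins

variable {a : NF} {V W O : Type u} [AddCommGroup V] [Module k V] [Module (A.obj (op a)) V] [IsScalarTower k (A.obj (op a)) V]
  [AddCommGroup W] [Module k W] [Module (A.obj (op a)) W] [IsScalarTower k (A.obj (op a)) W] [AddCommGroup O] [Module k O]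

theorem rTensor_smul' (f : V →ₗ[k] W) (hf : ∀ (r : A.obj (op a)) (v : V), f (r • v) = r • f v) (r : A.obj (op a))
    (w : V ⊗[k] O) : f.rTensor O (r • w) = r • f.rTensor O w := by
  induction w using TensorProduct.induction_on with
  | zero => simp
  | tmul m x => rw [TensorProduct.smul_tmul', LinearMap.rTensor_tmul, LinearMap.rTensor_tmul, TensorProduct.smul_tmul', hf]
  | add x y hx hy => simp only [map_add, smul_add, hx, hy]

theorem lTensor_smul' {O' : Type u} [AddCommGroup O'] [Module k O'] (f : O →ₗ[k] O') (r : A.obj (op a))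
    (w : V ⊗[k] O) : f.lTensor V (r • w) = r • f.lTensor V w := by
  induction w using TensorProduct.induction_on with
  | zero => simp
  | tmul m x => rw [TensorProduct.smul_tmul', LinearMap.lTensor_tmul, LinearMap.lTensor_tmul, TensorProduct.smul_tmul']
  | add x y hx hy => simp only [map_add, smul_add, hx, hy]

theorem assoc_smul' {O' : Type u} [AddCommGroup O'] [Module k O'] (r : A.obj (op a)) (w : (V ⊗[k] O) ⊗[k] O') :
    TensorProduct.assoc k V O O' (r • w) = r • TensorProduct.assoc k V O O' w := by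
  induction w using TensorProduct.induction_on with
  | zero => simp
  | tmul y x =>
    induction y using TensorProduct.induction_on with
    | zero => simp
    | tmul m z => rfl
    | add y z hy hz =>
      rw [TensorProduct.add_tmul, smul_add, map_add, map_add, smul_add, hy, hz]
  | add x y hx hy => simp only [map_add, smul_add, hx, hy]

end Lins

/-- **(S1)** an action of `E` on a cartesian presheaf of modules from the chart -/
def ECo.ofChart {E : Gp k} {M : PM.{u} A} (hM : M.Cart) (e : HopfRep.Comod k E.O (M.obj ⟨0⟩))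
    (lin : ∀ (r : A.obj (op ⟨0⟩)) (m : M.obj ⟨0⟩), e.coact (r • m) = r • e.coact m) (h1 : Lev1 M e.coact) :
    ECo E M where
  co a :=
    { coact := (coA hM lin a).restrictScalars k
      coassoc := by
        have hf : ((coA hM lin a).restrictScalars k) ∘ₗ mapk (k := k) M (pt a 0) =
            (mapk (k := k) M (pt a 0)).rTensor E.O ∘ₗ e.coact := LinearMap.ext fun m => coA_spec hM lin a m
        have hl : ∀ (r : A.obj (op a)) (v : M.obj a), ((coA hM lin a).restrictScalars k) (r • v) =
            r • ((coA hM lin a).restrictScalars k) v := fun r v => (coA hM lin a).map_smul r v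
        refine LinearMap.ext fun m => ?_
        refine semi_eq hM (𝟙 a) (0 : Fin (a.n + 1))
          (f := ((TensorProduct.assoc k (M.obj a) E.O E.O).toLinearMap ∘ₗ
            ((coA hM lin a).restrictScalars k).rTensor E.O ∘ₗ (coA hM lin a).restrictScalars k).toAddMonoidHom)
          (g := ((CoalgebraStruct.comul (R := k) (A := E.O)).lTensor (M.obj a) ∘ₗ
            (coA hM lin a).restrictScalars k).toAddMonoidHom)
          (fun r m => ?_) (fun r m => ?_) (fun m => ?_) m
        · rw [rg_id]
          change TensorProduct.assoc k (M.obj a) E.O E.O (((coA hM lin a).restrictScalars k).rTensor E.O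
            (((coA hM lin a).restrictScalars k) (r • m))) = r • TensorProduct.assoc k (M.obj a) E.O E.O
              (((coA hM lin a).restrictScalars k).rTensor E.O (((coA hM lin a).restrictScalars k) m))
          rw [hl, rTensor_smul' _ hl, assoc_smul']
        · rw [rg_id]
          change (CoalgebraStruct.comul (R := k) (A := E.O)).lTensor (M.obj a) (((coA hM lin a).restrictScalars k) (r • m)) =
            r • (CoalgebraStruct.comul (R := k) (A := E.O)).lTensor (M.obj a) (((coA hM lin a).restrictScalars k) m)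
          rw [hl, lTensor_smul']
        · exact ComodTens.coassoc_apply_of_hom e _ _ hf m
      counit_comp := by
        have hf : ((coA hM lin a).restrictScalars k) ∘ₗ mapk (k := k) M (pt a 0) =
            (mapk (k := k) M (pt a 0)).rTensor E.O ∘ₗ e.coact := LinearMap.ext fun m => coA_spec hM lin a m
        have hl : ∀ (r : A.obj (op a)) (v : M.obj a), ((coA hM lin a).restrictScalars k) (r • v) =
            r • ((coA hM lin a).restrictScalars k) v := fun r v => (coA hM lin a).map_smul r v
        refine LinearMap.ext fun m => ?_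
        refine semi_eq hM (𝟙 a) (0 : Fin (a.n + 1))
          (f := ((CoalgebraStruct.counit (R := k) (A := E.O)).lTensor (M.obj a) ∘ₗ
            (coA hM lin a).restrictScalars k).toAddMonoidHom)
          (g := ((TensorProduct.mk k (M.obj a) k).flip 1).toAddMonoidHom)
          (fun r m => ?_) (fun r m => ?_) (fun m => ?_) m
        · rw [rg_id]
          change (CoalgebraStruct.counit (R := k) (A := E.O)).lTensor (M.obj a) (((coA hM lin a).restrictScalars k) (r • m)) =
            r • (CoalgebraStruct.counit (R := k) (A := E.O)).lTensor (M.obj a) (((coA hM lin a).restrictScalars k) m)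
          rw [hl, lTensor_smul']
        · rw [rg_id]
          rfl
        · exact ComodTens.counit_apply_of_hom e _ _ hf m }
  lin a r m := by
    rw [mulk_rTensor]
    exact (coA hM lin a).map_smul r m
  nat φ m := coA_nat hM lin h1 φ m

end Groth.Agent.ResProp.EF.K918.SObj
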