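import Groth.Agent.ResProp.EF.K104.Hopf
import Groth.Agent.ResProp.EF.K104.OutGr
import Groth.Agent.ResProp.EF.K104.G5Out
import Groth.Agent.ResProp.EF.K959.SObj
import Groth.Agent.ResProp.EF.K959.PowHom

/-!
# E-side (helper918; AD4 (5) of helper303's cut), abstract part

From an operator package `P` over `H0` acting on `K` (`OpAct P K`), `R`-linearly and commuting with the descent datum `s`
(`OpHyp`), and the killing lemma for `H0`: an admissible group `E → H0`, a matrix representation `T` of `H0` and a coaction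
of `E` on `T.I → K`, `R`-linear, commuting with `s.pow T.I` (the fields of helper959's `EDesc`), with all `k`-linear maps
commuting with lifts and `DD¹`, and with the graded pieces as in helper104's `OpAct.co_gr` : `EOut`, `exists_EOut`.
-/

set_option autoImplicit false
set_option linter.dupNamespace false

open CategoryTheory Opposite TensorProduct WithConv

noncomputable section

namespace Groth.Agent.ResProp.EF.K918.ESide

open K784.BC K784.PM K741.RP EF56 K980 K980.BC Grp Arch K104 K208 K649 K661 K959 K959.CoBC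

universe u

/-! ### operators of `O ⊗ K` as maps `K → K ⊗ O` -/

section DOp

variable {k : Type u} [CommRing k] {O : Type u} [CommRing O] [Algebra k O] {K : Type u} [AddCommGroup K] [Module k K]

/-- the map `K → K ⊗ O` of an operator of `O ⊗ K` -/
def dOp (S : Module.End O (O ⊗[k] K)) : K →ₗ[k] K ⊗[k] O :=
  (TensorProduct.comm k O K).toLinearMap ∘ₗ S.restrictScalars k ∘ₗ TensorProduct.mk k O K 1

theorem dOp_apply (S : Module.End O (O ⊗[k] K)) (m : K) : dOp S m = TensorProduct.comm k O K (S (1 ⊗ₜ m)) := rfl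

/-- `S` commutes with `f` -/
def Cm (f : K →ₗ[k] K) (S : Module.End O (O ⊗[k] K)) : Prop := ∀ y, f.lTensor O (S y) = S (f.lTensor O y)

variable {f : K →ₗ[k] K}

theorem Cm.one : Cm f (1 : Module.End O (O ⊗[k] K)) := fun _ => rfl

theorem Cm.zero : Cm f (0 : Module.End O (O ⊗[k] K)) := fun _ => map_zero _

theorem Cm.add {S T : Module.End O (O ⊗[k] K)} (hS : Cm f S) (hT : Cm f T) : Cm f (S + T) := fun y => by
  rw [LinearMap.add_apply, LinearMap.add_apply, map_add, hS, hT]

theorem Cm.mul {S T : Module.End O (O ⊗[k] K)} (hS : Cm f S) (hT : Cm f T) : Cm f (S * T) := fun y => by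
  rw [Module.End.mul_apply, Module.End.mul_apply, hS, hT]

theorem Cm.smul {S : Module.End O (O ⊗[k] K)} (hS : Cm f S) (b : O) : Cm f (b • S) := fun y => by
  rw [LinearMap.smul_apply, LinearMap.smul_apply, K104.lTensor_smul', hS]

theorem Cm.sum {J : Type*} (s : Finset J) {S : J → Module.End O (O ⊗[k] K)} (h : ∀ j ∈ s, Cm f (S j)) :
    Cm f (∑ j ∈ s, S j) := by
  classical
  induction s using Finset.induction_on with
  | empty => simpa using Cm.zero
  | insert j s hj ih =>
    rw [Finset.sum_insert hj]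
    exact (h j (Finset.mem_insert_self _ _)).add (ih fun i hi => h i (Finset.mem_insert_of_mem hi))

theorem Cm.dOp {S : Module.End O (O ⊗[k] K)} (hS : Cm f S) (m : K) : dOp S (f m) = f.rTensor O (ESide.dOp S m) := by
  have h := hS (1 ⊗ₜ m)
  rw [LinearMap.lTensor_tmul] at h
  rw [dOp_apply, dOp_apply, ← h]
  generalize S (1 ⊗ₜ m) = x
  induction x with
  | zero => simp
  | add x y hx hy => simp only [map_add, hx, hy]
  | tmul b m => simp

variable {I : Type} [Fintype I] [DecidableEq I]

/-- coordinates -/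
theorem dOp_mat (X : Matrix I I (Module.End O (O ⊗[k] K))) (v : I → K) (i : I) :
    (LinearMap.proj (R := k) (φ := fun _ : I => K) i).rTensor O (dOp (matOp O X) v) = ∑ j, dOp (X i j) (v j) := by
  have e : ∀ x : O ⊗[k] (I → K), (LinearMap.proj (R := k) (φ := fun _ : I => K) i).rTensor O
      (TensorProduct.comm k O (I → K) x) =
        TensorProduct.comm k O K (TensorProduct.piRight k O O (fun _ : I => K) x i) := by
    intro x
    induction x with
    | zero => simp
    | add x y hx hy => simp only [map_add, Pi.add_apply, hx, hy]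
    | tmul v a => simp
  rw [dOp_apply, e, piRight_matOp, map_sum]
  refine Finset.sum_congr rfl fun j _ => ?_
  simp only [TensorProduct.piRight_apply, TensorProduct.piRightHom_tmul]
  rfl

theorem ext_pi {G : Type u} [AddCommGroup G] [Module k G] {x y : (I → G) ⊗[k] O}
    (h : ∀ i, (LinearMap.proj (R := k) (φ := fun _ : I => G) i).rTensor O x =
      (LinearMap.proj (R := k) (φ := fun _ : I => G) i).rTensor O y) : x = y := by
  apply (TensorProduct.comm k (I → G) O).injective
  apply (TensorProduct.piRight k O O (fun _ : I => G)).injective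
  funext i
  have e : ∀ x : (I → G) ⊗[k] O,
      TensorProduct.piRight k O O (fun _ : I => G) (TensorProduct.comm k (I → G) O x) i =
        TensorProduct.comm k G O ((LinearMap.proj (R := k) (φ := fun _ : I => G) i).rTensor O x) := by
    intro x
    induction x with
    | zero => simp
    | add x y hx hy => simp only [map_add, Pi.add_apply, hx, hy]
    | tmul v a => simp
  rw [e, e, h]

theorem Cm.mat {X : Matrix I I (Module.End O (O ⊗[k] K))} (h : ∀ i j, Cm f (X i j)) (v : I → K) :
    ESide.dOp (matOp O X) (f.compLeft I v) = (f.compLeft I).rTensor O (ESide.dOp (matOp O X) v) := by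
  apply ext_pi
  intro i
  rw [dOp_mat]
  have e : (LinearMap.proj (R := k) (φ := fun _ : I => K) i) ∘ₗ (f.compLeft I) =
      f ∘ₗ (LinearMap.proj (R := k) (φ := fun _ : I => K) i) := rfl
  rw [← LinearMap.rTensor_comp_apply, e, LinearMap.rTensor_comp_apply, dOp_mat, map_sum]
  refine Finset.sum_congr rfl fun j _ => ?_
  exact (h i j).dOp (v j)

end DOp

/-! ### base change of the coaction -/

section Pow

variable {k R R' : Type u} [CommRing k] [CommRing R] [CommRing R'] [Algebra k R] [Algebra k R'] {K : Type u}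
  [AddCommGroup K] [Module R K] [Module k K] [IsScalarTower k R K] {O : Type u} [CommRing O] [Algebra k O]
  {x : R →+* R'} {I : Type} [Fintype I] [DecidableEq I]
  [Module k (BC x K)] [IsScalarTower k R' (BC x K)] [Module k (BC x (I → K))] [IsScalarTower k R' (BC x (I → K))]

omit [Algebra k R] [Module k K] [IsScalarTower k R K] in
/-- `BC x (I → K) ⊗ O` is detected by the coordinates -/
theorem ext_proj {w w' : BC x (I → K) ⊗[k] O}
    (h : ∀ i : I, ((BC.map x (LinearMap.proj i : (I → K) →ₗ[R] K)).restrictScalars k).rTensor O w =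
      ((BC.map x (LinearMap.proj i : (I → K) →ₗ[R] K)).restrictScalars k).rTensor O w') : w = w' := by
  have key : ∀ w : BC x (I → K) ⊗[k] O, w = ∑ i : I,
      ((BC.map x (LinearMap.single R (fun _ : I => K) i)).restrictScalars k).rTensor O
        (((BC.map x (LinearMap.proj i : (I → K) →ₗ[R] K)).restrictScalars k).rTensor O w) := by
    intro w
    induction w with
    | zero => simp only [map_zero, Finset.sum_const_zero]
    | add a b ha hb =>
      simp only [map_add, Finset.sum_add_distrib]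
      rw [← ha, ← hb]
    | tmul z o =>
      simp only [LinearMap.rTensor_tmul, LinearMap.coe_restrictScalars]
      rw [← TensorProduct.sum_tmul]
      congr 1
      have e : (∑ i : I, BC.map x (LinearMap.single R (fun _ : I => K) i) ∘ₗ
          BC.map x (LinearMap.proj i : (I → K) →ₗ[R] K)) = LinearMap.id := by
        refine BC.hom_ext fun m => ?_
        rw [LinearMap.sum_apply, LinearMap.id_apply]
        simp only [LinearMap.comp_apply, map_bc]
        rw [← map_sum]
        congr 1
        funext j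
        rw [Finset.sum_apply]
        simp only [LinearMap.proj_apply, LinearMap.single_apply]
        rw [Finset.sum_eq_single j]
        · rw [Pi.single_eq_same]
        · intro i _ hij
          rw [Pi.single_eq_of_ne (Ne.symm hij)]
        · intro hj
          exact absurd (Finset.mem_univ _) hj
      have := LinearMap.congr_fun e z
      rw [LinearMap.sum_apply, LinearMap.id_apply] at this
      exact this.symm
  rw [key w, key w']
  exact Finset.sum_congr rfl fun i _ => by rw [h i]

/-- the base change of the matrix coaction in coordinates -/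
theorem coB_mat (hx : ∀ r : k, x (algebraMap k R r) = algebraMap k R' r)
    (X : Matrix I I (Module.End O (O ⊗[k] K)))
    (hl : ∀ i j (r : R) (m : K), dOp (X i j) (r • m) = (mul k K r).rTensor O (dOp (X i j) m))
    (hl' : ∀ (r : R) (m : I → K), dOp (matOp O X) (r • m) = (mul k (I → K) r).rTensor O (dOp (matOp O X) m))
    (z : BC x (I → K)) (i : I) :
    ((BC.map x (LinearMap.proj i : (I → K) →ₗ[R] K)).restrictScalars k).rTensor O
      (coB hx (dOp (matOp O X)) hl' z) =
      ∑ j, coB hx (dOp (X i j)) (hl i j) (BC.map x (LinearMap.proj j : (I → K) →ₗ[R] K) z) := by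
  induction z using BC.ind with
  | h0 => simp only [map_zero, Finset.sum_const_zero]
  | h1 r m =>
    simp only [LinearMap.map_smul, coB_smul, map_bc, coB_bc]
    rw [← map_sum]
    have e1 : ∑ j, (toK hx (bc x : K →ₛₗ[x] BC x K)).rTensor O
        (dOp (X i j) ((LinearMap.proj j : (I → K) →ₗ[R] K) m)) =
        (toK hx (bc x : K →ₛₗ[x] BC x K)).rTensor O
          ((LinearMap.proj (R := k) (φ := fun _ : I => K) i).rTensor O (dOp (matOp O X) m)) := by
      rw [dOp_mat, map_sum]
      rfl
    rw [e1, ← LinearMap.rTensor_comp_apply, ← LinearMap.rTensor_comp_apply, ← LinearMap.rTensor_comp_apply,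
      ← LinearMap.rTensor_comp_apply]
    congr 2
    refine LinearMap.ext fun n => ?_
    simp
  | h2 a b ha hb => simp only [map_add, ha, hb, Finset.sum_add_distrib]

end Pow

/-! ### the output -/

variable {k : Type u} [CommRing k] {A : NFᵒᵖ ⥤ CommRingCat.{u}} [GRF k A]
  {K : Type u} [AddCommGroup K] [Module (A.obj (op ⟨0⟩)) K] [Module k K] [IsScalarTower k (A.obj (op ⟨0⟩)) K]
  {H0 : Gp k} {n : ℕ} {P : OpPkg (pts H0) n}

/-- the operators are `R`-linear and commute with the descent datum -/
structure OpHyp (s : Desc A K) (Act : OpAct P K) : Prop where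
  lin : ∀ (B : Type u) [CommRing B] [Algebra k B] [Module.Flat k B] (a : P.AA B) (r : A.obj (op ⟨0⟩)),
    Cm (mul k K r) (Act.κ B a)
  equi : ∀ (B : Type u) [CommRing B] [Algebra k B] [Module.Flat k B] (a : P.AA B) (m : K),
    coB (hk A k ⟨1⟩ 1) (dOp (Act.κ B a)) (fun r m => (lin B a r).dOp m) (s.σ (bc (vx A ⟨1⟩ 0) m)) =
      (s.σ.toLinearMap.restrictScalars k).rTensor B
        (coB (hk A k ⟨1⟩ 0) (dOp (Act.κ B a)) (fun r m => (lin B a r).dOp m) (bc (vx A ⟨1⟩ 0) m))

/-- the output of section 5 on `T.I → K` -/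
structure EOut (s : Desc A K) (Act : OpAct P K) : Type (u + 1) where
  E : Gp k
  ι : H0.O →ₐc[k] E.O
  adm : Adm H0 E ι
  T : MRep H0
  /-- the coaction -/
  c : HopfRep.Comod k E.O (T.I → K)
  lin : ∀ (r : A.obj (op ⟨0⟩)) (m : T.I → K), c.coact (r • m) = (mul k (T.I → K) r).rTensor E.O (c.coact m)
  equi : ∀ m : T.I → K, coB (hk A k ⟨1⟩ 1) c.coact lin ((s.pow T.I).σ (bc (vx A ⟨1⟩ 0) m)) =
    ((s.pow T.I).σ.toLinearMap.restrictScalars k).rTensor E.O
      (coB (hk A k ⟨1⟩ 0) c.coact lin (bc (vx A ⟨1⟩ 0) m))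
  comm : ∀ f : K →ₗ[k] K,
    (∀ (B : Type u) [CommRing B] [Algebra k B] [Module.Flat k B] (g : H0.O →ₐ[k] B),
      ∀ ψ ∈ P.Lift B (mkPt H0 g), Cm f (Act.κ B (ψ : P.AA B))) →
    (∀ (B : Type u) [CommRing B] [Algebra k B] [Module.Flat k B], ∀ X ∈ opD P B 1, Cm f (Act.κ B X)) →
    ∀ m, c.coact (f.compLeft T.I m) = (f.compLeft T.I).rTensor E.O (c.coact m)
  gr : ∀ {F : Type u} [AddCommGroup F] [Module k F] {G : Type u} [AddCommGroup G] [Module k G]
    [HopfRep.Comod k H0.O G] (a : F →ₗ[k] K) (π : F →ₗ[k] G),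
    (∀ (B : Type u) [CommRing B] [Algebra k B] [Module.Flat k B] (g : H0.O →ₐ[k] B),
      ∀ ψ ∈ P.Lift B (mkPt H0 g), Compat a π (Act.κ B (ψ : P.AA B)) (K90.op G B g)) →
    (∀ (B : Type u) [CommRing B] [Algebra k B] [Module.Flat k B],
      ∀ X ∈ opD P B 1, Compat a π (Act.κ B X) 0) → ∀ y : T.I → F,
    ∃ z : (T.I → F) ⊗[k] E.O, (a.compLeft T.I).rTensor E.O z = c.coact (a.compLeft T.I y) ∧
      (π.compLeft T.I).rTensor E.O z =
        (ι : H0.O →ₐ[k] E.O).toLinearMap.lTensor (T.I → G) ((hCo T G).coact (π.compLeft T.I y))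

theorem linI {O : Type u} [CommRing O] [Algebra k O] {I : Type} [Fintype I] [DecidableEq I]
    (X : Matrix I I (Module.End O (O ⊗[k] K)))
    (hl : ∀ i j (r : A.obj (op ⟨0⟩)), Cm (mul k K r) (X i j)) (r : A.obj (op ⟨0⟩)) (m : I → K) :
    dOp (matOp O X) (r • m) = (mul k (I → K) r).rTensor O (dOp (matOp O X) m) := by
  have h := Cm.mat (fun i j => hl i j r) m
  have e : (mul k K r).compLeft I = mul k (I → K) r := rfl
  rw [e] at h
  exact h

/-- **E-side.** -/
theorem exists_EOut (hK : Kill H0) (s : Desc A K) (Act : OpAct P K) (hyp : OpHyp s Act) :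
    Nonempty (EOut s Act) := by
  obtain ⟨E, ι, T, t, hA, hs⟩ := g5 hK P
  let X : Matrix T.I T.I (Module.End E.O (E.O ⊗[k] K)) :=
    (Act.linz (mr T)).app E.O (t.app E.O (mkPt E (AlgHom.id k E.O)))
  have hX : ∀ i j, ∃ a : P.AA E.O, X i j = Act.κ E.O a := fun i j => ⟨_, rfl⟩
  have hl : ∀ i j (r : A.obj (op ⟨0⟩)), Cm (mul k K r) (X i j) := by
    intro i j r
    obtain ⟨a, ha⟩ := hX i j
    rw [ha]
    exact hyp.lin E.O a r
  have hc : ∀ m, (eCo Act T E t).coact m = dOp (matOp E.O X) m := fun m => rfl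
  have lin : ∀ (r : A.obj (op ⟨0⟩)) (m : T.I → K),
      (eCo Act T E t).coact (r • m) = (mul k (T.I → K) r).rTensor E.O ((eCo Act T E t).coact m) :=
    fun r m => linI X hl r m
  refine ⟨⟨E, ι, hA, T, eCo Act T E t, lin, fun m => ?_, fun f h1 h2 m => ?_, fun a π h1 h2 y => ?_⟩⟩
  · have hl2 : ∀ i j (r : A.obj (op ⟨0⟩)) (m : K), dOp (X i j) (r • m) = (mul k K r).rTensor E.O (dOp (X i j) m) :=
      fun i j r m => (hl i j r).dOp m
    have heq : ∀ i j (z : BC (vx A ⟨1⟩ 0) K), coB (hk A k ⟨1⟩ 1) (dOp (X i j)) (hl2 i j) (s.σ z) =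
        (s.σ.toLinearMap.restrictScalars k).rTensor E.O (coB (hk A k ⟨1⟩ 0) (dOp (X i j)) (hl2 i j) z) := by
      intro i j z
      induction z using BC.ind with
      | h0 => simp only [map_zero]
      | h1 r m =>
        rw [_root_.map_smul, coB_smul, coB_smul]
        obtain ⟨a, ha⟩ := hX i j
        have h3 := hyp.equi E.O a m
        have h4 : coB (hk A k ⟨1⟩ 1) (dOp (X i j)) (hl2 i j) (s.σ (bc (vx A ⟨1⟩ 0) m)) =
            (s.σ.toLinearMap.restrictScalars k).rTensor E.O
              (coB (hk A k ⟨1⟩ 0) (dOp (X i j)) (hl2 i j) (bc (vx A ⟨1⟩ 0) m)) := by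
          revert h3
          have key : ∀ (S S' : Module.End E.O (E.O ⊗[k] K)) (e : S = S')
              (l : ∀ (r : A.obj (op ⟨0⟩)) (m : K), dOp S (r • m) = (mul k K r).rTensor E.O (dOp S m))
              (l' : ∀ (r : A.obj (op ⟨0⟩)) (m : K), dOp S' (r • m) = (mul k K r).rTensor E.O (dOp S' m)),
              coB (hk A k ⟨1⟩ 1) (dOp S') l' (s.σ (bc (vx A ⟨1⟩ 0) m)) =
                (s.σ.toLinearMap.restrictScalars k).rTensor E.O
                  (coB (hk A k ⟨1⟩ 0) (dOp S') l' (bc (vx A ⟨1⟩ 0) m)) →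
              coB (hk A k ⟨1⟩ 1) (dOp S) l (s.σ (bc (vx A ⟨1⟩ 0) m)) =
                (s.σ.toLinearMap.restrictScalars k).rTensor E.O
                  (coB (hk A k ⟨1⟩ 0) (dOp S) l (bc (vx A ⟨1⟩ 0) m)) := by
            intro S S' e l l'
            subst e
            exact id
          exact key _ _ ha _ _
        rw [h4, ← LinearMap.rTensor_comp_apply, ← LinearMap.rTensor_comp_apply]
        congr 2
        refine LinearMap.ext fun n => ?_
        simp
      | h2 a b ha hb => simp only [map_add, ha, hb]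
    refine ext_proj fun i => ?_
    change ((BC.map _ (LinearMap.proj i : (T.I → K) →ₗ[A.obj (op ⟨0⟩)] K)).restrictScalars k).rTensor E.O
      (coB (hk A k ⟨1⟩ 1) (dOp (matOp E.O X)) (linI X hl) _) = _
    rw [coB_mat (hk A k ⟨1⟩ 1) X hl2 (linI X hl)]
    have e1 : ((BC.map (vx A ⟨1⟩ 1) (LinearMap.proj i : (T.I → K) →ₗ[A.obj (op ⟨0⟩)] K)).restrictScalars k) ∘ₗ
        ((s.pow T.I).σ.toLinearMap.restrictScalars k) = (s.σ.toLinearMap.restrictScalars k) ∘ₗ
          ((BC.map (vx A ⟨1⟩ 0) (LinearMap.proj i : (T.I → K) →ₗ[A.obj (op ⟨0⟩)] K)).restrictScalars k) := by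
      refine LinearMap.ext fun z => ?_
      exact proj_powE T.I s.σ i z
    rw [← LinearMap.rTensor_comp_apply, e1, LinearMap.rTensor_comp_apply]
    change _ = (s.σ.toLinearMap.restrictScalars k).rTensor E.O
      (((BC.map (vx A ⟨1⟩ 0) (LinearMap.proj i : (T.I → K) →ₗ[A.obj (op ⟨0⟩)] K)).restrictScalars k).rTensor E.O
        (coB (hk A k ⟨1⟩ 0) (dOp (matOp E.O X)) (linI X hl) _))
    rw [coB_mat (hk A k ⟨1⟩ 0) X hl2 (linI X hl), map_sum]
    refine Finset.sum_congr rfl fun j _ => ?_
    rw [← heq]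
    congr 1
    exact proj_powE T.I s.σ j _
  · have hs1 := hs E.O (AlgHom.id k E.O)
    rw [AlgHom.id_comp] at hs1
    obtain ⟨ψ, hψ, Y, hY, e⟩ := Act.exists_dec (mr T) E.O (t.app E.O (mkPt E (AlgHom.id k E.O)))
    have hx1 : (t.app E.O (mkPt E (AlgHom.id k E.O))).1.1 = mkPt H0 (ι : H0.O →ₐ[k] E.O) := hs1
    rw [hx1] at hψ
    have hXf : ∀ i j, Cm f (X i j) := by
      intro i j
      have e' : X i j = _ := congrFun (congrFun e i) j
      rw [e', Matrix.mul_apply]
      refine Cm.sum _ fun l _ => Cm.mul ?_ ?_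
      · exact (h1 E.O _ ψ hψ).smul _
      · have h4 : Cm f ((1 : Matrix T.I T.I (Module.End E.O (E.O ⊗[k] K))) l j) := by
          by_cases hlj : l = j
          · subst hlj
            rw [Matrix.one_apply_eq]
            exact Cm.one
          · rw [Matrix.one_apply_ne hlj]
            exact Cm.zero
        exact h4.add (h2 E.O (Y l j) (hY l j))
    exact Cm.mat hXf m
  · exact eCo_gr Act T E ι t hs a π h1 h2 y

end Groth.Agent.ResProp.EF.K918.ESide
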