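import Groth.Agent.ResProp.EF.K918.StmtE
import Groth.Agent.ResProp.EF.K698.GrK

/-!
# E-side (helper918), part (E3): the `H`-comodule structure of the graded pieces

`grRep : Rep k H0.O (GrF X m)`, the operators are the actions (helper698's `gkAct`) of the arrows of the points of `H0`.
-/

set_option autoImplicit false
set_option linter.dupNamespace false

open CategoryTheory Opposite TensorProduct

noncomputable section

namespace Groth.Agent.ResProp.EF.K918.GrE

open K784.BC K784.PM K741.RP EF56 K980 K980.BC Grp Arch K104 K208 K649 K661 K959 K959.CoBC K60 K303 K363 K918.ESide OpTh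
  ActGam K698

universe u

section Str

variable {k : Type u} [CommRing k] {A : NFᵒᵖ ⥤ CommRingCat.{u}} [GRF k A] (X : OpCpx.{u} (A.obj (op ⟨0⟩))) (m : ℕ)

instance towF : IsScalarTower k (A.obj (op ⟨0⟩)) (X.F m) := ⟨fun r s v => Subtype.ext (smul_assoc r s (v : X.K))⟩

instance towG : IsScalarTower k (A.obj (op ⟨0⟩)) (GrF X m) := ⟨fun r s v => by
  induction v using Submodule.Quotient.induction_on with
  | _ v =>
    rw [← Submodule.Quotient.mk_smul, ← Submodule.Quotient.mk_smul, ← Submodule.Quotient.mk_smul, smul_assoc]⟩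

/-- `F m` over `R` -/
def eF : FK X m ≃ₗ[A.obj (op ⟨0⟩)] X.F m where
  toFun v := ⟨v.1, v.2⟩
  invFun v := ⟨v.1, v.2⟩
  map_add' _ _ := rfl
  map_smul' _ _ := rfl
  left_inv _ := rfl
  right_inv _ := rfl

theorem eF_coe (v : FK X m) : ((eF X m v : X.F m) : X.K) = v := rfl

/-- `F m → gr^m` over `R` -/
def mkR : FK X m →ₗ[A.obj (op ⟨0⟩)] GrF X m :=
  (((X.F (m + 1)).comap (X.F m).subtype).mkQ.restrictScalars (A.obj (op ⟨0⟩))) ∘ₗ (eF X m).toLinearMap

theorem mkR_eq_zero (v : FK X m) : mkR X m v = 0 ↔ v ∈ (FK X (m + 1)).submoduleOf (FK X m) := by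
  change Submodule.Quotient.mk (eF X m v) = 0 ↔ _
  rw [Submodule.Quotient.mk_eq_zero]
  rfl

/-- `gr^m` over `R` -/
def eGr : GK X m ≃ₗ[A.obj (op ⟨0⟩)] GrF X m :=
  LinearEquiv.ofBijective (((FK X (m + 1)).submoduleOf (FK X m)).liftQ (mkR X m)
    (fun v hv => LinearMap.mem_ker.2 ((mkR_eq_zero X m v).2 hv))) ⟨by
      intro a b hab
      induction a using Submodule.Quotient.induction_on with
      | _ v =>
        induction b using Submodule.Quotient.induction_on with
        | _ w =>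
          have h1 : mkR X m v = mkR X m w := hab
          rw [← sub_eq_zero, ← map_sub, mkR_eq_zero] at h1
          exact (Submodule.Quotient.eq _).2 h1, fun g => by
      induction g using Submodule.Quotient.induction_on with
      | _ v => exact ⟨Submodule.Quotient.mk ((eF X m).symm v), rfl⟩⟩

theorem eGr_mk (v : FK X m) : eGr X m (Submodule.Quotient.mk v) = mkF (k := k) X m (eF X m v) := rfl

/-- `BC id (F m) ≃ F m` -/
def eeF : BC (RingHom.id (A.obj (op ⟨0⟩))) (FK X m) ≃ₗ[A.obj (op ⟨0⟩)] X.F m :=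
  (e0 (fun _ => rfl) (FK X m)).trans (eF X m)

/-- `BC id (gr^m) ≃ gr^m` -/
def eeG : BC (RingHom.id (A.obj (op ⟨0⟩))) (GK X m) ≃ₗ[A.obj (op ⟨0⟩)] GrF X m :=
  (e0 (fun _ => rfl) (GK X m)).trans (eGr X m)

theorem h_inc (z : BC (RingHom.id (A.obj (op ⟨0⟩))) (FK X m)) :
    incF (k := k) X m (eeF X m z) =
      e0 (fun _ => rfl) X.K (BC.map (RingHom.id (A.obj (op ⟨0⟩))) (FK X m).subtype z) := by
  have h1 : z = bc (RingHom.id (A.obj (op ⟨0⟩))) (e0 (fun _ => rfl) (FK X m) z) :=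
    (bc_e0L (fun _ => rfl) (FK X m) z).symm
  generalize e0 (fun _ => rfl) (FK X m) z = w at h1
  subst h1
  rw [map_bc, e0_bc, eeF, LinearEquiv.trans_apply, e0_bc]
  rfl

theorem h_mk (z : BC (RingHom.id (A.obj (op ⟨0⟩))) (FK X m)) :
    mkF (k := k) X m (eeF X m z) =
      eeG X m (BC.map (RingHom.id (A.obj (op ⟨0⟩))) (Submodule.mkQ _) z) := by
  have h1 : z = bc (RingHom.id (A.obj (op ⟨0⟩))) (e0 (fun _ => rfl) (FK X m) z) :=
    (bc_e0L (fun _ => rfl) (FK X m) z).symm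
  generalize e0 (fun _ => rfl) (FK X m) z = w at h1
  subst h1
  rw [map_bc, eeF, eeG, LinearEquiv.trans_apply, LinearEquiv.trans_apply, e0_bc, e0_bc]
  rfl

variable (B : Type u) [CommRing B] [Algebra k B]

/-- `theta` for `F m → K` -/
theorem th_inc (y : B ⊗[k] X.F m) :
    K60.theta k (RingHom.id _) (e0 (fun _ => rfl) X.K) B ((incF X m).lTensor B y) =
      incx X (pB k (RingHom.id _) B) m (K60.theta k (RingHom.id _) (eeF X m) B y) :=
  theta_lTensor (eeF X m) B (e0 (fun _ => rfl) X.K) (FK X m).subtype (incF X m) (h_inc X m) y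

/-- `theta` for `F m → gr^m` -/
theorem th_mk (y : B ⊗[k] X.F m) :
    K60.theta k (RingHom.id _) (eeG X m) B ((mkF X m).lTensor B y) =
      prg X (pB k (RingHom.id _) B) m (K60.theta k (RingHom.id _) (eeF X m) B y) :=
  theta_lTensor (eeF X m) B (eeG X m) (Submodule.mkQ _) (mkF X m) (h_mk X m) y

end Str

/-! ### the representation of `H0` on `gr^m` -/

section Rep

variable {k : Type u} [CommRing k] {A : NFᵒᵖ ⥤ CommRingCat.{u}} [GRF k A] {P : PGpd.{u} (A.obj (op ⟨0⟩))}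
  (X : AlgPkg P) {H0 : Gp k} (act : HAct k P (RingHom.id (A.obj (op ⟨0⟩))) (pts H0)) (m : ℕ)

theorem fB (B : Type u) [CommRing B] [Algebra k B] [Module.Flat k B] :
    (pB k (RingHom.id (A.obj (op ⟨0⟩))) B).Flat := pB_flat k (RingHom.Flat.id _) B

/-- the operator of a point over `B ⊗ R` -/
def gop (B : Type u) [CommRing B] [Algebra k B] [Module.Flat k B] (h : (pts H0).pt B) :
    Module.End (B ⊗[k] A.obj (op ⟨0⟩)) (BC (pB k (RingHom.id (A.obj (op ⟨0⟩))) B) (GK X.toOpCpx m)) :=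
  (gkAct (X := X) (fB B) (fB B) (act.app B h) m).toLinearMap

theorem gop_mul (B : Type u) [CommRing B] [Algebra k B] [Module.Flat k B] (h h' : (pts H0).pt B) :
    gop X act m B (h * h') = gop X act m B h * gop X act m B h' := by
  unfold gop
  rw [act.app_mul, gkAct_comp (fB B) (fB B) (fB B)]
  rfl

theorem gop_one (B : Type u) [CommRing B] [Algebra k B] [Module.Flat k B] :
    gop X act m B 1 = 1 := by
  unfold gop
  rw [act.app_one, gkAct_id]
  rfl

theorem gop_pull {B C : Type u} [CommRing B] [Algebra k B] [Module.Flat k B] [CommRing C] [Algebra k C]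
    [Module.Flat k C] (f : B →ₐ[k] C) (h : (pts H0).pt B) :
    gop X act m C ((pts H0).map f h) =
      BC.pull (mB k (A.obj (op ⟨0⟩)) f) (mB_comp_pB k _ f) (mB_comp_pB k _ f) (gop X act m B h) := by
  unfold gop
  rw [← act.app_map, gkAct_pull (mB k (A.obj (op ⟨0⟩)) f) (mB_comp_pB k _ f) (mB_comp_pB k _ f) (fB B) (fB B) (fB C) (fB C)]
  rfl

open Classical in
/-- the operators on `B ⊗ gr^m` -/
def gs (B : Type u) [CommRing B] [Algebra k B] (h : (pts H0).pt B) :
    Module.End B (B ⊗[k] GrF X.toOpCpx m) :=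
  if _ : Module.Flat k B then kE (eeG X.toOpCpx m) B (gop X act m B h) else 1

theorem gs_flat (B : Type u) [CommRing B] [Algebra k B] [Module.Flat k B] (h : (pts H0).pt B) :
    gs X act m B h = kE (eeG X.toOpCpx m) B (gop X act m B h) := by
  unfold gs
  exact dif_pos ‹Module.Flat k B›

/-- **the representation of `H0` on `gr^m`** -/
def grRep : Rep k H0.O (GrF X.toOpCpx m) where
  s B _ _ g := gs X act m B (mkPt H0 g)
  nat {B C} _ _ _ _ _ _ f g x := by
    rw [gs_flat, gs_flat, kE_nat, ← map_mkPt, gop_pull]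
  mul B _ _ _ g h x := by
    rw [mkPt_pmul, gs_flat, gs_flat, gs_flat, gop_mul, map_mul]
    rfl
  one B _ _ _ x := by
    rw [mkPt_pone, gs_flat, gop_one, map_one]
    rfl

/-- the `H0`-comodule `gr^m` -/
abbrev grCo : HopfRep.Comod k H0.O (GrF X.toOpCpx m) := (grRep X act m).comod

/-- the operators of the comodule of a representation -/
theorem op_comod {Hh : Type u} [CommRing Hh] [Bialgebra k Hh] [Module.Flat k Hh] {V : Type u} [AddCommGroup V]
    [Module k V] (r : Rep k Hh V) (B : Type u) [CommRing B] [Algebra k B] [Module.Flat k B] (g : Hh →ₐ[k] B)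
    (x : B ⊗[k] V) : (letI := r.comod; K90.op V B g x) = r.s B g x := by
  letI := r.comod
  induction x with
  | zero => rw [map_zero, map_zero]
  | add a b ha hb => rw [map_add, map_add]; exact congrArg₂ _ ha hb
  | tmul b v =>
    rw [r.s_tmul]
    refine (K90.op_tmul V B g b v).trans ?_
    congr 1
    change TensorProduct.comm k V B (g.toLinearMap.lTensor V (TensorProduct.comm k Hh V (r.co' v))) = _
    generalize r.co' v = y
    induction y with
    | zero => simp
    | add x y hx hy => simp only [map_add, hx, hy]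
    | tmul a w => simp

/-- lifts are compatible with the action on `gr^m` -/
theorem compat_lift (B : Type u) [CommRing B] [Algebra k B] [Module.Flat k B] (g : H0.O →ₐ[k] B)
    (φ : BC (pB k (RingHom.id (A.obj (op ⟨0⟩))) B) X.K ≃ₗ[B ⊗[k] A.obj (op ⟨0⟩)]
      BC (pB k (RingHom.id (A.obj (op ⟨0⟩))) B) X.K) (hφ : φ ∈ X.L (act.app B (mkPt H0 g)))
    (a : Module.End (B ⊗[k] A.obj (op ⟨0⟩)) (BC (pB k (RingHom.id (A.obj (op ⟨0⟩))) B) X.K)) (ha : ∀ v, a v = φ v) :
    Compat (incF (k := k) X.toOpCpx m) (mkF X.toOpCpx m) (kE (e0 (fun _ => rfl) X.K) B a)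
      (letI := grCo X act m; K90.op (GrF X.toOpCpx m) B g) := by
  intro y
  obtain ⟨y', hy'⟩ := theta_surjective (k := k) (eeF X.toOpCpx m) B
    (LF (fB B) (fB B) hφ m (K60.theta k (RingHom.id _) (eeF X.toOpCpx m) B y))
  refine ⟨y', ?_, ?_⟩
  · symm
    refine kE_eq _ B ?_
    rw [th_inc, th_inc, ha, hy', incx_LF]
  · rw [op_comod]
    change _ = gs X act m B (mkPt H0 g) _
    rw [gs_flat]
    symm
    refine kE_eq _ B ?_
    rw [th_mk, th_mk, hy']
    exact gkAct_prg (fB B) (fB B) hφ m _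

/-- operators of `DD¹` raise the filtration -/
theorem ddx_incx {R' : Type u} [CommRing R'] {x : A.obj (op ⟨0⟩) →+* R'} {T : BC x X.K →ₗ[R'] BC x X.K}
    (hT : T ∈ X.DDx x 1) (v : BC x (FK X.toOpCpx m)) :
    ∃ w : BC x (FK X.toOpCpx (m + 1)), T (incx X.toOpCpx x m v) = incx X.toOpCpx x (m + 1) w := by
  refine DDx_induction X.toOpCpx x 1 (p := fun T => ∃ w : BC x (FK X.toOpCpx (m + 1)),
    T (incx X.toOpCpx x m v) = incx X.toOpCpx x (m + 1) w) ⟨0, by simp only [LinearMap.zero_apply, map_zero]⟩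
    (fun r S hS => ?_) ?_ hT
  · have key : ∀ v : BC x (FK X.toOpCpx m), ∃ w : BC x (FK X.toOpCpx (m + 1)),
        BC.map x S (incx X.toOpCpx x m v) = incx X.toOpCpx x (m + 1) w := by
      intro v
      let S' : FK X.toOpCpx m →ₗ[A.obj (op ⟨0⟩)] FK X.toOpCpx (m + 1) :=
        LinearMap.codRestrict _ (S ∘ₗ (FK X.toOpCpx m).subtype) (fun w => X.DD_F 1 m S hS w w.2)
      refine ⟨BC.map x S' v, ?_⟩
      rw [incx, incx, BC.map_map, BC.map_map]
      rfl
    obtain ⟨w, hw⟩ := key v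
    exact ⟨r • w, by rw [LinearMap.smul_apply, hw, map_smul]⟩
  · rintro a b ⟨w, hw⟩ ⟨w', hw'⟩
    exact ⟨w + w', by rw [LinearMap.add_apply, hw, hw', map_add]⟩

/-- operators of `DD¹` induce `0` on `gr^m` -/
theorem compat_opD (B : Type u) [CommRing B] [Algebra k B]
    (a : Module.End (B ⊗[k] A.obj (op ⟨0⟩)) (BC (pB k (RingHom.id (A.obj (op ⟨0⟩))) B) X.K))
    (ha : a ∈ X.DDx (pB k (RingHom.id (A.obj (op ⟨0⟩))) B) 1) :
    Compat (incF (k := k) X.toOpCpx m) (mkF X.toOpCpx m) (kE (e0 (fun _ => rfl) X.K) B a) 0 := by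
  intro y
  obtain ⟨w, hw⟩ := ddx_incx X m ha (K60.theta k (RingHom.id _) (eeF X.toOpCpx m) B y)
  obtain ⟨y', hy'⟩ := theta_surjective (k := k) (eeF X.toOpCpx m) B
    (BC.map _ (Submodule.inclusion (FK_succ X.toOpCpx m)) w)
  refine ⟨y', ?_, ?_⟩
  · symm
    refine kE_eq _ B ?_
    rw [th_inc, th_inc, hy', incx_succ]
    exact hw
  · refine (K60.theta_injective k (RingHom.id _) (eeG X.toOpCpx m) B) ?_
    rw [th_mk, hy', LinearMap.zero_apply, map_zero, prg, BC.map_map]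
    have h0 : (Submodule.mkQ ((FK X.toOpCpx (m + 1)).submoduleOf (FK X.toOpCpx m))) ∘ₗ
        Submodule.inclusion (FK_succ X.toOpCpx m) = 0 := by
      ext z
      change Submodule.Quotient.mk _ = 0
      rw [Submodule.Quotient.mk_eq_zero]
      exact z.2
    rw [h0, BC.map_zero']
    rfl

end Rep

/-! ### for `ALGOut` -/

section Out

variable {k : Type u} [CommRing k] {A : NFᵒᵖ ⥤ CommRingCat.{u}} [GRF k A] {x : PrimeSpectrum (A.obj (op ⟨0⟩))}
  {c : CoverDatum k A x} (o : ALGOut c) (hA : GR A)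
  (ψ : BC ((lvB k hA k).x 1 0) o.X.K ≃ₗ[(lvB k hA k).Rn 1] BC ((lvB k hA k).x 1 1) o.X.K)
  (hψ : ψ ∈ o.X.L (o.lev.ar k 1 0 1 1)) (hcl : LiftsComm o.X o.lev hA ψ)

/-- `c0` of `eside_of` -/
abbrev cc0 (m : ℕ) : HopfRep.Comod k c.H.O (GrF o.X.toOpCpx m) := grCo o.X (levAct o.lev) m

/-- `h1` of `eside_of` -/
theorem hh1 (m : ℕ) (B : Type u) [CommRing B] [Algebra k B] [Module.Flat k B] (g : c.H.O →ₐ[k] B) :
    ∀ φ ∈ (levPkg o.X o.lev hA ψ hψ hcl).Lift B (mkPt c.H g),
      Compat (incF (k := k) o.X.toOpCpx m) (mkF o.X.toOpCpx m)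
        ((StmtE.levOp o hA ψ hψ hcl).κ B (φ : (levPkg o.X o.lev hA ψ hψ hcl).AA B))
        (letI := cc0 o m; K90.op (GrF o.X.toOpCpx m) B g) := by
  intro φ hφ
  obtain ⟨g1, hg1, hv⟩ := lift_spec B (mkPt c.H g) φ hφ
  exact compat_lift o.X (levAct o.lev) m B g g1 hg1 _ hv

/-- `h2` of `eside_of` -/
theorem hh2 (m : ℕ) (B : Type u) [CommRing B] [Algebra k B] [Module.Flat k B] :
    ∀ Y ∈ opD (levPkg o.X o.lev hA ψ hψ hcl) B 1,
      Compat (incF (k := k) o.X.toOpCpx m) (mkF o.X.toOpCpx m) ((StmtE.levOp o hA ψ hψ hcl).κ B Y) 0 :=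
  fun Y hY => compat_opD o.X m B _ (opD_spec B Y hY)

end Out

end Groth.Agent.ResProp.EF.K918.GrE
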