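import Groth.Agent.ResProp.EF.K918.GrE

/-!
# E-side (helper918), part (E3), the Hopf module formula of the graded pieces, and `StmtESide`
-/

set_option autoImplicit false
set_option linter.dupNamespace false

open CategoryTheory Opposite TensorProduct

noncomputable section

namespace Groth.Agent.ResProp.EF.K918.GrH3

open K784.BC K784.PM K741.RP EF56 K980 K980.BC Grp Arch K104 K208 K649 K661 K959 K959.CoBC K60 K303 K363 K918.ESide OpTh
  ActGam K698 GrE

universe u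

section Out

variable {k : Type u} [CommRing k] {A : NFᵒᵖ ⥤ CommRingCat.{u}} [GRF k A] {x : PrimeSpectrum (A.obj (op ⟨0⟩))}
  {c : CoverDatum k A x} (o : ALGOut c)

/-- `BC id D ≃ D⟨0⟩` -/
def eD : BC (RingHom.id (A.obj (op ⟨0⟩))) o.X.D ≃ₗ[A.obj (op ⟨0⟩)] c.Y.D.obj (op ⟨0⟩) :=
  (e0 (fun _ => rfl) o.X.D).trans o.iD.toLinearEquiv

theorem eD_symm (d : o.X.D) : (eD o).symm (o.iD d) = bc (RingHom.id (A.obj (op ⟨0⟩))) d := by
  rw [LinearEquiv.symm_apply_eq]
  change _ = o.iD (e0 (fun _ => rfl) o.X.D (bc _ d))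
  rw [e0_bc]

theorem theta_eD (B : Type u) [CommRing B] [Algebra k B] (b : B) (d : o.X.D) :
    K60.theta k (RingHom.id _) (eD o) B (b ⊗ₜ o.iD d) =
      ((b ⊗ₜ (1 : A.obj (op ⟨0⟩)) : B ⊗[k] A.obj (op ⟨0⟩))) • bc (pB k (RingHom.id _) B) d := by
  rw [theta_tmul, eD_symm, BC.tr_bc]

theorem rgD_id (z : c.Y.D.obj (op ⟨0⟩)) : rg c.Y.D (pt ⟨0⟩ 0) z = z := by
  have h : pt (⟨0⟩ : NF) 0 = 𝟙 _ := by
    funext i
    exact Subsingleton.elim (α := Fin 1) _ _
  rw [h, rg_id]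
  rfl

/-- the comparison of the two points `R → B ⊗ R` -/
theorem tr_vtx (B : Type u) [CommRing B] [Algebra k B] (w : BC (xp k A B 0 0) o.X.D) :
    BC.tr (RingHom.id (B ⊗[k] A.obj (op ⟨0⟩))) (eB B) w =
      K60.theta k (RingHom.id _) (eD o) B (vtxD c B 0 0 (BC.map (xp k A B 0 0) o.iD.toLinearMap w)) := by
  induction w using BC.ind with
  | h0 => simp only [map_zero]
  | h1 r d =>
    rw [LinearMap.map_smulₛₗ, BC.tr_bc, LinearMap.map_smul, BC.map_bc, LinearMap.map_smulₛₗ]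
    have h1 : vtxD c B 0 0 (bc (xp k A B 0 0) (o.iD.toLinearMap d)) =
        ((1 : B) ⊗ₜ[k] (o.iD d) : B ⊗[k] c.Y.D.obj (op ⟨0⟩)) := by
      refine (BC.lift_bc _ _ _).trans ?_
      change (1 : B) ⊗ₜ[k] rg c.Y.D (pt ⟨0⟩ 0) (o.iD d) = _
      rw [rgD_id]
    rw [h1]
    induction r with
    | zero => simp only [map_zero, zero_smul]
    | tmul b r =>
      have h2 : lvD c B 0 (b ⊗ₜ r) • ((1 : B) ⊗ₜ[k] (o.iD d) : B ⊗[k] c.Y.D.obj (op ⟨0⟩)) =
          b ⊗ₜ[k] (o.iD (r • d)) := by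
        change (b ⊗ₜ[k] algebraMap _ (c.Y.D.obj (op ⟨0⟩)) r) * ((1 : B) ⊗ₜ[k] (o.iD d)) = _
        rw [Algebra.TensorProduct.tmul_mul_tmul, mul_one, map_smul, Algebra.smul_def]
      rw [h2, theta_eD, LinearMap.map_smulₛₗ, smul_smul, pB_apply, Algebra.TensorProduct.tmul_mul_tmul, mul_one,
        one_mul]
      rfl
    | add a b ha hb =>
      rw [map_add, map_add, add_smul, add_smul, map_add, ha, hb]
  | h2 a b ha hb => simp only [map_add, ha, hb]

/-- **(ETA)** -/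
theorem eta_app (B : Type u) [CommRing B] [Algebra k B] [Module.Flat k B] (h : (pts c.H).pt B) (d : o.X.D) :
    o.X.eta.act ((levAct o.lev).app B h) (bc (pB k (RingHom.id _) B) d) =
      K60.theta k (RingHom.id _) (eD o) B (hAct c B 0 h.ofConv (o.iD d)) := by
  have h1 : vtxD c B 0 0 (BC.map (xp k A B 0 0) o.iD.toLinearMap (o.X.eta.act (o.lev.ar B 0 0 0 h)
      (BC.map (xp k A B 0 0) o.iD.symm.toLinearMap (bc (xp k A B 0 0) (o.iD d))))) =
      hAct c B 0 h.ofConv (rg c.Y.D (pt ⟨0⟩ 0) (o.iD d)) := o.eta_match B 0 0 0 h (o.iD d)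
  rw [rgD_id] at h1
  have h2 : BC.map (xp k A B 0 0) o.iD.symm.toLinearMap (bc (xp k A B 0 0) (o.iD d)) = bc (xp k A B 0 0) d := by
    rw [BC.map_bc]
    congr 1
    exact o.iD.symm_apply_apply d
  rw [h2] at h1
  rw [← h1, ← tr_vtx]
  have h3 : o.X.eta.act ((levAct o.lev).app B h) =
      BC.pullE (RingHom.id _) (eB B) (eB B) (o.X.eta.act (o.lev.ar B 0 0 0 h)) :=
    o.X.eta.act_pull (RingHom.id _) (eB B) (eB B) (o.lev.ar B 0 0 0 h)
  rw [h3, BC.pullE_bc]

variable (m : ℕ)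

theorem eeG_symm_smul (q : o.X.Q) (g : GrF o.X.toOpCpx m) :
    (eGr o.X.toOpCpx m).symm (q • g) = o.X.π q • (eGr o.X.toOpCpx m).symm g := by
  induction g using Submodule.Quotient.induction_on with
  | _ v =>
    obtain ⟨w, rfl⟩ := (eF o.X.toOpCpx m).surjective v
    have h1 : (eGr o.X.toOpCpx m).symm (Submodule.Quotient.mk (eF o.X.toOpCpx m w)) = Submodule.Quotient.mk w := by
      rw [LinearEquiv.symm_apply_eq]
      rfl
    rw [h1, pi_smul_mkK, LinearEquiv.symm_apply_eq]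
    rfl

theorem theta_eeG (B : Type u) [CommRing B] [Algebra k B] (b : B) (g : GrF o.X.toOpCpx m) :
    K60.theta k (RingHom.id _) (eeG o.X.toOpCpx m) B (b ⊗ₜ g) =
      ((b ⊗ₜ (1 : A.obj (op ⟨0⟩)) : B ⊗[k] A.obj (op ⟨0⟩))) •
        bc (pB k (RingHom.id _) B) ((eGr o.X.toOpCpx m).symm g) := by
  have h1 : (eeG o.X.toOpCpx m).symm g = bc (RingHom.id (A.obj (op ⟨0⟩))) ((eGr o.X.toOpCpx m).symm g) := by
    rw [LinearEquiv.symm_apply_eq, eeG, LinearEquiv.trans_apply, e0_bc, LinearEquiv.apply_symm_apply]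
  rw [theta_tmul, h1, BC.tr_bc]

/-- `kdmul` through `theta` -/
theorem kdmul_theta (B : Type u) [CommRing B] [Algebra k B] (y : B ⊗[k] o.X.Q) (t : B ⊗[k] GrF o.X.toOpCpx m) :
    kdmul o.X.toOpCpx (pB k (RingHom.id _) B) m (K60.theta k (RingHom.id _) (eD o) B ((piK o).lTensor B y))
      (K60.theta k (RingHom.id _) (eeG o.X.toOpCpx m) B t) =
      K60.theta k (RingHom.id _) (eeG o.X.toOpCpx m) B
        (TensorProduct.map₂ (LinearMap.mul k B) (Algebra.lsmul k k (GrF o.X.toOpCpx m)).toLinearMap y t) := by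
  induction y with
  | zero => simp only [map_zero, LinearMap.zero_apply]
  | add a b ha hb => simp only [map_add, LinearMap.add_apply, ha, hb]
  | tmul b q =>
    induction t with
    | zero => simp only [map_zero]
    | add s t hs ht => simp only [map_add, hs, ht]
    | tmul b' g =>
      rw [LinearMap.lTensor_tmul, TensorProduct.map₂_apply_tmul]
      have h1 : piK o q = o.iD (o.X.π q) := rfl
      rw [h1, theta_eD, theta_eeG]
      change _ = K60.theta k (RingHom.id _) (eeG o.X.toOpCpx m) B ((b * b') ⊗ₜ (q • g))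
      rw [theta_eeG, eeG_symm_smul, kdmul, map_smul, map_smul, LinearMap.smul_apply, BC.bil_bc, smul_smul,
        Algebra.TensorProduct.tmul_mul_tmul, one_mul, mul_comm b' b]
      rfl

theorem theta_one_smul (B : Type u) [CommRing B] [Algebra k B] (q : o.X.Q) (g : GrF o.X.toOpCpx m) :
    K60.theta k (RingHom.id _) (eeG o.X.toOpCpx m) B ((1 : B) ⊗ₜ (q • g)) =
      kdmul o.X.toOpCpx (pB k (RingHom.id _) B) m (bc (pB k (RingHom.id _) B) (o.X.π q))
        (K60.theta k (RingHom.id _) (eeG o.X.toOpCpx m) B ((1 : B) ⊗ₜ g)) := by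
  rw [theta_eeG, theta_eeG, eeG_symm_smul, LinearMap.map_smul]
  congr 1
  exact (BC.bil_bc (x := pB k (RingHom.id (A.obj (op ⟨0⟩))) B)
    (smulR (A.obj (op ⟨0⟩)) o.X.D (GK o.X.toOpCpx m)) (o.X.π q) ((eGr o.X.toOpCpx m).symm g)).symm

/-- the operator of the universal point, `theta` form -/
theorem theta_gs (B : Type u) [CommRing B] [Algebra k B] [Module.Flat k B] (h : (pts c.H).pt B)
    (t : B ⊗[k] GrF o.X.toOpCpx m) :
    K60.theta k (RingHom.id _) (eeG o.X.toOpCpx m) B (gs o.X (levAct o.lev) m B h t) =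
      gkAct (X := o.X) (fB B) (fB B) ((levAct o.lev).app B h) m
        (K60.theta k (RingHom.id _) (eeG o.X.toOpCpx m) B t) := by
  rw [gs_flat]
  exact theta_kE _ _ _ _

/-- the Hopf formula for the operators of points -/
theorem gs_smul (B : Type u) [CommRing B] [Algebra k B] [Module.Flat k B] (h : (pts c.H).pt B) (q : o.X.Q)
    (y : B ⊗[k] o.X.Q) (hy : (piK o).lTensor B y = hAct c B 0 h.ofConv (piK o q)) (g : GrF o.X.toOpCpx m) :
    gs o.X (levAct o.lev) m B h (1 ⊗ₜ (q • g)) =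
      TensorProduct.map₂ (LinearMap.mul k B) (Algebra.lsmul k k (GrF o.X.toOpCpx m)).toLinearMap y
        (gs o.X (levAct o.lev) m B h (1 ⊗ₜ g)) := by
  refine K60.theta_injective k (RingHom.id _) (eeG o.X.toOpCpx m) B ?_
  rw [theta_gs, theta_one_smul, gkAct_smul, eta_app, ← kdmul_theta, theta_gs, hy]
  rfl

/-- **`h3` of `eside_of`** -/
theorem hh3 (q : o.X.Q) (y : o.X.Q ⊗[k] c.H.O) (hy : (piK o).rTensor c.H.O y = (c.ρ ⟨0⟩).ρ (piK o q))
    (g : GrF o.X.toOpCpx m) : (cc0 o m).coact (q • g) =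
      TensorProduct.map₂ (Algebra.lsmul k k (GrF o.X.toOpCpx m)).toLinearMap (LinearMap.mul k c.H.O) y
        ((cc0 o m).coact g) := by
  have hy' : (piK o).lTensor c.H.O (TensorProduct.comm k o.X.Q c.H.O y) =
      hAct c c.H.O 0 (mkPt c.H (AlgHom.id k c.H.O)).ofConv (piK o q) := by
    have h2 : hAct c c.H.O 0 (mkPt c.H (AlgHom.id k c.H.O)).ofConv (piK o q) =
        TensorProduct.comm k (c.Y.D.obj (op ⟨0⟩)) c.H.O ((c.ρ ⟨0⟩).ρ (piK o q)) := by
      change TensorProduct.comm k (c.Y.D.obj (op ⟨0⟩)) c.H.O ((AlgHom.id k c.H.O).toLinearMap.lTensor _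
        ((c.ρ ⟨0⟩).ρ (piK o q))) = _
      rw [AlgHom.toLinearMap_id, LinearMap.lTensor_id]
      rfl
    rw [h2, ← hy]
    clear hy h2
    induction y with
    | zero => simp
    | add a b ha hb => simp only [map_add, ha, hb]
    | tmul a b => simp
  have h1 := gs_smul o m c.H.O (mkPt c.H (AlgHom.id k c.H.O)) q _ hy' g
  have hco : ∀ g, (cc0 o m).coact g = TensorProduct.comm k c.H.O (GrF o.X.toOpCpx m)
      (gs o.X (levAct o.lev) m c.H.O (mkPt c.H (AlgHom.id k c.H.O)) (1 ⊗ₜ g)) := fun g => rfl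
  rw [hco, hco, h1]
  generalize gs o.X (levAct o.lev) m c.H.O (mkPt c.H (AlgHom.id k c.H.O)) (1 ⊗ₜ g) = t
  clear hco h1 hy' hy
  induction y with
  | zero => simp
  | add a b ha hb => simp only [map_add, LinearMap.add_apply, ha, hb]
  | tmul q b =>
    induction t with
    | zero => simp
    | add a b ha hb => simp only [map_add, ha, hb]
    | tmul b' g => simp

end Out

end Groth.Agent.ResProp.EF.K918.GrH3
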