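import Groth.Agent.ResProp.EF.K60.GamPkg
import Groth.Agent.ResProp.EF.K918.ESide

/-!
# E-side (helper918), model part, general point `s : R →+* G`

`e : BC s N ≃ₗ[G] M`.  `kE : End_{B ⊗ G} (BC (pB k s B) N) →+* End_B (B ⊗ M)` through helper60's
`theta : B ⊗ M ≃ BC (pB k s B) N`; naturality in `B`, `G`-linearity, maps `N → N'`, change of the point, stability of
submodules.
-/

set_option autoImplicit false

universe u

open TensorProduct

noncomputable section

namespace Groth.Agent.ResProp.EF.K918.OpTh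

open K980 K60 K959.CoBC ESide

section One

variable {k : Type u} [CommRing k] {R G : Type u} [CommRing R] [CommRing G] [Algebra k G] {s : R →+* G}
  {N : Type u} [AddCommGroup N] [Module R N] {M : Type u} [AddCommGroup M] [Module G M] [Module k M]
  [IsScalarTower k G M] (e : BC s N ≃ₗ[G] M) (B : Type u) [CommRing B] [Algebra k B]

theorem theta_smul (b : B) (z : B ⊗[k] M) :
    theta k s e B (b • z) = (b ⊗ₜ[k] (1 : G)) • theta k s e B z := by
  induction z with
  | zero => rw [smul_zero, map_zero, smul_zero]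
  | tmul c n =>
    rw [TensorProduct.smul_tmul', theta_tmul, theta_tmul, smul_smul, Algebra.TensorProduct.tmul_mul_tmul, one_mul]
    rfl
  | add x y hx hy => rw [smul_add, map_add, map_add, smul_add, hx, hy]

theorem theta_mul (g : G) (z : B ⊗[k] M) :
    theta k s e B ((mul k M g).lTensor B z) = ((1 : B) ⊗ₜ[k] g) • theta k s e B z := by
  induction z with
  | zero => rw [map_zero, map_zero, smul_zero]
  | tmul c n =>
    rw [LinearMap.lTensor_tmul, theta_tmul, theta_tmul, mul_apply, map_smul, LinearMap.map_smulₛₗ, smul_smul, smul_smul,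
      inR_apply, Algebra.TensorProduct.tmul_mul_tmul, Algebra.TensorProduct.tmul_mul_tmul, mul_one, one_mul, one_mul,
      mul_one]
  | add x y hx hy => rw [map_add, map_add, map_add, smul_add, hx, hy]

theorem theta_surjective : Function.Surjective (theta k s e B) := by
  intro z
  induction z using BC.ind with
  | h0 => exact ⟨0, map_zero _⟩
  | h1 r n =>
    induction r with
    | zero => exact ⟨0, by rw [map_zero, zero_smul]⟩
    | tmul b g =>
      refine ⟨b ⊗ₜ (g • e (bc s n)), ?_⟩
      rw [theta_tmul, map_smul, LinearEquiv.symm_apply_apply, LinearMap.map_smulₛₗ, BC.tr_bc, smul_smul, inR_apply,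
        Algebra.TensorProduct.tmul_mul_tmul, mul_one, one_mul]
    | add a b ha hb =>
      obtain ⟨x, hx⟩ := ha
      obtain ⟨y, hy⟩ := hb
      exact ⟨x + y, by rw [map_add, hx, hy, add_smul]⟩
  | h2 a b ha hb =>
    obtain ⟨x, hx⟩ := ha
    obtain ⟨y, hy⟩ := hb
    exact ⟨x + y, by rw [map_add, hx, hy]⟩

/-- `B ⊗ M ≃ BC (pB k s B) N` -/
def thE : B ⊗[k] M ≃+ BC (pB k s B) N :=
  AddEquiv.ofBijective (theta k s e B) ⟨theta_injective k s e B, theta_surjective e B⟩

theorem thE_apply (z : B ⊗[k] M) : thE e B z = theta k s e B z := rfl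

/-- operators over `B ⊗ G` as operators on `B ⊗ M` -/
def kE : Module.End (B ⊗[k] G) (BC (pB k s B) N) →+* Module.End B (B ⊗[k] M) where
  toFun a :=
    { toFun := fun z => (thE e B).symm (a (thE e B z))
      map_add' := fun y z => by rw [map_add, map_add, map_add]
      map_smul' := fun b z => by
        rw [AddEquiv.symm_apply_eq, thE_apply, thE_apply, theta_smul, LinearMap.map_smul, RingHom.id_apply, theta_smul,
          ← thE_apply (B := B) (z := (thE e B).symm _), AddEquiv.apply_symm_apply]
        rfl }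
  map_one' := by
    refine LinearMap.ext fun z => ?_
    exact (thE e B).symm_apply_apply z
  map_mul' a b := by
    refine LinearMap.ext fun z => ?_
    change (thE e B).symm (a (b (thE e B z))) =
      (thE e B).symm (a (thE e B ((thE e B).symm (b (thE e B z)))))
    rw [AddEquiv.apply_symm_apply]
  map_zero' := by
    refine LinearMap.ext fun z => ?_
    change (thE e B).symm 0 = 0
    rw [map_zero]
  map_add' a b := by
    refine LinearMap.ext fun z => ?_
    change (thE e B).symm (a (thE e B z) + b (thE e B z)) =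
      (thE e B).symm (a (thE e B z)) + (thE e B).symm (b (thE e B z))
    rw [map_add]

theorem theta_kE (a : Module.End (B ⊗[k] G) (BC (pB k s B) N)) (z : B ⊗[k] M) :
    theta k s e B (kE e B a z) = a (theta k s e B z) := (thE e B).apply_symm_apply _

theorem kE_eq {a : Module.End (B ⊗[k] G) (BC (pB k s B) N)} {z w : B ⊗[k] M}
    (h : a (theta k s e B z) = theta k s e B w) : kE e B a z = w :=
  theta_injective k s e B ((theta_kE e B a z).trans h)

theorem kE_smul (b : B) (a : Module.End (B ⊗[k] G) (BC (pB k s B) N)) :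
    kE e B ((b ⊗ₜ[k] (1 : G)) • a) = b • kE e B a := by
  refine LinearMap.ext fun z => ?_
  refine kE_eq e B ?_
  rw [LinearMap.smul_apply, LinearMap.smul_apply, theta_smul, theta_kE]

/-- the scalars -/
theorem kE_scalar (b : B) (z : B ⊗[k] M) :
    kE e B ((b ⊗ₜ[k] (1 : G)) • (1 : Module.End (B ⊗[k] G) (BC (pB k s B) N))) z = b • z := by
  rw [kE_smul, map_one]
  rfl

/-- maps of modules -/
theorem theta_lTensor {N' : Type u} [AddCommGroup N'] [Module R N'] {M' : Type u} [AddCommGroup M'] [Module G M']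
    [Module k M'] [IsScalarTower k G M'] (e' : BC s N' ≃ₗ[G] M') (g : N →ₗ[R] N') (g' : M →ₗ[k] M')
    (hg : ∀ z, g' (e z) = e' (BC.map s g z)) (z : B ⊗[k] M) :
    theta k s e' B (g'.lTensor B z) = BC.map (pB k s B) g (theta k s e B z) := by
  induction z with
  | zero => simp only [map_zero]
  | tmul c n =>
    obtain ⟨w, rfl⟩ := e.surjective n
    rw [theta_tmul, LinearMap.map_smul, LinearMap.lTensor_tmul, theta_tmul, hg, e.symm_apply_apply,
      e'.symm_apply_apply, BC.tr_map]
  | add x y hx hy => simp only [map_add, hx, hy]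

/-- commutation with a linear map -/
theorem kE_comm (a : Module.End (B ⊗[k] G) (BC (pB k s B) N)) (g : N →ₗ[R] N) (g' : M →ₗ[k] M)
    (hg : ∀ z, g' (e z) = e (BC.map s g z))
    (h : ∀ v, a (BC.map (pB k s B) g v) = BC.map (pB k s B) g (a v)) : Cm g' (kE e B a) := by
  intro z
  symm
  refine kE_eq e B ?_
  rw [theta_lTensor e B e g g' hg, theta_lTensor e B e g g' hg, h, theta_kE]

/-- `G`-linearity -/
theorem kE_lin (a : Module.End (B ⊗[k] G) (BC (pB k s B) N)) (g : G) : Cm (mul k M g) (kE e B a) := by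
  intro z
  symm
  refine kE_eq e B ?_
  rw [theta_mul, theta_mul, LinearMap.map_smul, theta_kE]

end One

theorem tr_tr_of {R R₁ R₂ R₃ : Type u} [CommRing R] [CommRing R₁] [CommRing R₂] [CommRing R₃] {N : Type u}
    [AddCommGroup N] [Module R N] {x : R →+* R₁} {x' : R →+* R₂} {x'' : R →+* R₃} {f : R₁ →+* R₂} {g : R₂ →+* R₃}
    {h : R₁ →+* R₃} (e : g.comp f = h) (hx : f.comp x = x') (hx' : g.comp x' = x'') (hx'' : h.comp x = x'')
    (m : BC x N) : BC.tr g hx' (BC.tr f hx m) = BC.tr h hx'' m := by
  subst e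
  exact BC.tr_tr hx hx' hx'' m

section Nat

variable {k : Type u} [CommRing k] {R G : Type u} [CommRing R] [CommRing G] [Algebra k G] {s : R →+* G}
  {N : Type u} [AddCommGroup N] [Module R N] {M : Type u} [AddCommGroup M] [Module G M] [Module k M]
  [IsScalarTower k G M] (e : BC s N ≃ₗ[G] M) {B C : Type u} [CommRing B] [Algebra k B] [CommRing C] [Algebra k C]

theorem theta_rTensor (f : B →ₐ[k] C) (z : B ⊗[k] M) :
    theta k s e C (f.toLinearMap.rTensor M z) = BC.tr (mB k G f) (mB_comp_pB k s f) (theta k s e B z) := by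
  induction z with
  | zero => simp only [map_zero]
  | tmul c n =>
    rw [LinearMap.rTensor_tmul, theta_tmul, theta_tmul, LinearMap.map_smulₛₗ, mB_tmul,
      tr_tr_of (inR_mB k f) (inR_comp k s B) (mB_comp_pB k s f) (inR_comp k s C)]
    rfl
  | add x y hx hy => simp only [map_add, hx, hy]

theorem kE_nat (f : B →ₐ[k] C) (a : Module.End (B ⊗[k] G) (BC (pB k s B) N)) (z : B ⊗[k] M) :
    f.toLinearMap.rTensor M (kE e B a z) =
      kE e C (BC.pull (mB k G f) (mB_comp_pB k s f) (mB_comp_pB k s f) a) (f.toLinearMap.rTensor M z) := by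
  symm
  refine kE_eq e C ?_
  rw [theta_rTensor, theta_rTensor, BC.pull_tr, theta_kE]

end Nat

section Pt

variable {k : Type u} [CommRing k] {R G G' : Type u} [CommRing R] [CommRing G] [Algebra k G] [CommRing G'] [Algebra k G']
  {s : R →+* G} {s' : R →+* G'} {N : Type u} [AddCommGroup N] [Module R N] {M : Type u} [AddCommGroup M] [Module G M]
  [Module k M] [IsScalarTower k G M] {M' : Type u} [AddCommGroup M'] [Module G' M'] [Module k M'] [IsScalarTower k G' M']
  (e : BC s N ≃ₗ[G] M) (e' : BC s' N ≃ₗ[G'] M') (φ : G →ₐ[k] G') (h : (φ : G →+* G').comp s = s')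
  (p : M →ₗ[k] M') (hp : ∀ z : BC s N, p (e z) = e' (BC.tr (φ : G →+* G') h z))
  (B : Type u) [CommRing B] [Algebra k B]

include hp in
theorem theta_pt (z : B ⊗[k] M) :
    theta k s' e' B (p.lTensor B z) = BC.tr (mG k φ B) (mG_comp_pB k φ h B) (theta k s e B z) := by
  induction z with
  | zero => simp only [map_zero]
  | tmul c n =>
    obtain ⟨w, rfl⟩ := e.surjective n
    rw [LinearMap.lTensor_tmul, theta_tmul, theta_tmul, hp, e.symm_apply_apply, e'.symm_apply_apply,
      LinearMap.map_smulₛₗ, mG_tmul, map_one]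
    congr 1
    have e1 : (mG k φ B).comp (inR k G B) = (inR k G' B).comp (φ : G →+* G') := inR_mG k φ B
    rw [tr_tr_of e1 (inR_comp k s B) (mG_comp_pB k φ h B) (by rw [RingHom.comp_assoc, h]; exact inR_comp k s' B)]
    exact tr_tr_of rfl h (inR_comp k s' B) _ w
  | add x y hx hy => simp only [map_add, hx, hy]

include hp in
/-- change of the point -/
theorem kE_pt (a : Module.End (B ⊗[k] G) (BC (pB k s B) N)) (z : B ⊗[k] M) :
    p.lTensor B (kE e B a z) =
      kE e' B (BC.pull (mG k φ B) (mG_comp_pB k φ h B) (mG_comp_pB k φ h B) a) (p.lTensor B z) := by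
  symm
  refine kE_eq e' B ?_
  rw [theta_pt e e' φ h p hp, theta_pt e e' φ h p hp, BC.pull_tr, theta_kE]

end Pt

section Iso

variable {k : Type u} [CommRing k] {R G : Type u} [CommRing R] [CommRing G] [Algebra k G]
  {s t : R →+* G} {N : Type u} [AddCommGroup N] [Module R N] {M : Type u} [AddCommGroup M] [Module G M]
  [Module k M] [IsScalarTower k G M] {M' : Type u} [AddCommGroup M'] [Module G M'] [Module k M'] [IsScalarTower k G M']
  (e : BC s N ≃ₗ[G] M) (e' : BC t N ≃ₗ[G] M') (σ : BC s N →ₗ[G] BC t N)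
  (q : M →ₗ[k] M') (hq : ∀ z : BC s N, q (e z) = e' (σ z)) (B : Type u) [CommRing B] [Algebra k B]

include hq in
theorem theta_iso (z : B ⊗[k] M) :
    theta k t e' B (q.lTensor B z) = BC.pull (inR k G B) (inR_comp k s B) (inR_comp k t B) σ (theta k s e B z) := by
  induction z with
  | zero => simp only [map_zero]
  | tmul c n =>
    obtain ⟨w, rfl⟩ := e.surjective n
    rw [LinearMap.lTensor_tmul, theta_tmul, theta_tmul, hq, e.symm_apply_apply, e'.symm_apply_apply,
      LinearMap.map_smul, BC.pull_tr]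
  | add x y hx hy => simp only [map_add, hx, hy]

include hq in
theorem kE_iso (a : Module.End (B ⊗[k] G) (BC (pB k s B) N)) (a' : Module.End (B ⊗[k] G) (BC (pB k t B) N))
    (h : ∀ v, a' (BC.pull (inR k G B) (inR_comp k s B) (inR_comp k t B) σ v) =
      BC.pull (inR k G B) (inR_comp k s B) (inR_comp k t B) σ (a v)) (z : B ⊗[k] M) :
    q.lTensor B (kE e B a z) = kE e' B a' (q.lTensor B z) := by
  symm
  refine kE_eq e' B ?_
  rw [theta_iso e e' σ q hq, theta_iso e e' σ q hq, h, theta_kE]

end Iso

end Groth.Agent.ResProp.EF.K918.OpTh
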