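import Groth.Agent.ResProp.EF.K918.ActGam
import Groth.Agent.ResProp.EF.K303.ConsDef
import Groth.Agent.ResProp.EF.K60.LevPkg

/-!
# E-side (helper918): helper303's `ESide o s` from the glued data and the `H`-comodule structure of the graded pieces
-/

set_option autoImplicit false
set_option linter.dupNamespace false

open CategoryTheory Opposite TensorProduct

noncomputable section

namespace Groth.Agent.ResProp.EF.K918.StmtE

open K784.BC K784.PM K741.RP EF56 K980 K980.BC Grp Arch K104 K208 K649 K661 K959 K959.CoBC K60 K303 K363 K918.ESide OpTh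
  ActGam

universe u

/-! ### the Hopf formula for `T ⊗ G`, one element at a time -/

section Hopf

variable {k : Type u} [CommRing k] {A : Type u} [CommRing A] [Bialgebra k A]
  {I : Type} [Fintype I] [DecidableEq I] (T : Matrix I I A)
  (hc : ∀ i j, Coalgebra.comul (R := k) (T i j) = ∑ l, T i l ⊗ₜ[k] T l j)
  (he : ∀ i j, Coalgebra.counit (R := k) (T i j) = (1 : Matrix I I k) i j)
  (G : Type u) [AddCommGroup G] [Module k G] [HopfRep.Comod k A G]
  {D : Type u} [CommRing D] [Algebra k D] [Module D G] [IsScalarTower k D G]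

theorem tensRep_hopf' (d : D) (y : D ⊗[k] A)
    (hG : ∀ m : G, HopfRep.Comod.coact (k := k) (A := A) (d • m) =
      TensorProduct.map₂ (Algebra.lsmul k k G).toLinearMap (LinearMap.mul k A) y
        (HopfRep.Comod.coact (k := k) (A := A) m)) (v : I → G) :
    (tensRep T hc he G).co (d • v) =
      TensorProduct.map₂ (Algebra.lsmul k k (I → G)).toLinearMap (LinearMap.mul k A) y
        ((tensRep T hc he G).co v) := by
  have e1 : ∀ (x : D ⊗[k] A) (y : (I → G) ⊗[k] A) (i : I),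
      (LinearMap.proj (R := k) (φ := fun _ : I => G) i).rTensor A
        (TensorProduct.map₂ (Algebra.lsmul k k (I → G)).toLinearMap (LinearMap.mul k A) x y) =
      TensorProduct.map₂ (Algebra.lsmul k k G).toLinearMap (LinearMap.mul k A) x
        ((LinearMap.proj (R := k) (φ := fun _ : I => G) i).rTensor A y) := by
    intro x y i
    induction x with
    | zero => simp
    | add x x' hx hx' => simp only [map_add, LinearMap.add_apply, hx, hx']
    | tmul d a =>
      induction y with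
      | zero => simp
      | add y y' hy hy' => simp only [map_add, hy, hy']
      | tmul v b => simp
  have e2 : ∀ (x : D ⊗[k] A) (y : G ⊗[k] A) (t : A),
      (LinearMap.mulLeft k t).lTensor G
        (TensorProduct.map₂ (Algebra.lsmul k k G).toLinearMap (LinearMap.mul k A) x y) =
      TensorProduct.map₂ (Algebra.lsmul k k G).toLinearMap (LinearMap.mul k A) x
        ((LinearMap.mulLeft k t).lTensor G y) := by
    intro x y t
    induction x with
    | zero => simp
    | add x x' hx hx' => simp only [map_add, LinearMap.add_apply, hx, hx']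
    | tmul d a =>
      induction y with
      | zero => simp
      | add y y' hy hy' => simp only [map_add, hy, hy']
      | tmul v b => simp [mul_left_comm]
  apply ext_pi_rTensor
  intro i
  rw [e1, tensRep_co, tensRep_co, map_sum]
  refine Finset.sum_congr rfl fun j _ => ?_
  rw [Pi.smul_apply, hG, e2]

end Hopf

section Out

variable {k : Type u} [CommRing k] {A : NFᵒᵖ ⥤ CommRingCat.{u}} [GRF k A] {x : PrimeSpectrum (A.obj (op ⟨0⟩))}
  {c : CoverDatum k A x} (o : ALGOut c) (hA : GR A)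
  (ψ : BC ((lvB k hA k).x 1 0) o.X.K ≃ₗ[(lvB k hA k).Rn 1] BC ((lvB k hA k).x 1 1) o.X.K)
  (hψ : ψ ∈ o.X.L (o.lev.ar k 1 0 1 1)) (hcl : LiftsComm o.X o.lev hA ψ) (hc : IsCocy (lvB k hA k) ψ)

/-- the action of `levPkg` on `K` -/
def levOp : OpAct (levPkg o.X o.lev hA ψ hψ hcl) o.X.K := gamAct fun _ => rfl

/-- the operators are `R`-linear and commute with the descent datum -/
theorem levHyp : OpHyp (descA hA ψ hc) (levOp o hA ψ hψ hcl) where
  lin B _ _ _ a r := gam_lin (fun _ => rfl) B a r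
  equi B _ _ _ a m := equi_of_comm (fun _ => rfl) (hk A k ⟨1⟩ 0) (hk A k ⟨1⟩ 1) B _
    (comm_of_mem B a) _ _

theorem lev_cm_lift (g : o.X.K →ₗ[A.obj (op ⟨0⟩)] o.X.K) (g' : o.X.K →ₗ[k] o.X.K) (hg : ∀ v, g' v = g v)
    (hL : ∀ {R' : Type u} [CommRing R'] {x y : A.obj (op ⟨0⟩) →+* R'} (a : o.P.Hom x y), x.Flat → y.Flat →
      ∀ ψ ∈ o.X.L a, ∀ v, ψ (BC.map x g v) = BC.map y g (ψ v))
    (B : Type u) [CommRing B] [Algebra k B] [Module.Flat k B] (h : (pts c.H).pt B) :
    ∀ φ ∈ (levPkg o.X o.lev hA ψ hψ hcl).Lift B h,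
      Cm g' ((levOp o hA ψ hψ hcl).κ B (φ : (levPkg o.X o.lev hA ψ hψ hcl).AA B)) := by
  intro φ hφ
  obtain ⟨g1, hg1, hv⟩ := lift_spec B h φ hφ
  refine gam_cm (fun _ => rfl) B _ g g' hg fun v => ?_
  rw [hv, hv]
  exact hL _ (pB_flat k (RingHom.Flat.id _) B) (pB_flat k (RingHom.Flat.id _) B) _ hg1 v

theorem lev_cm_opD (g : o.X.K →ₗ[A.obj (op ⟨0⟩)] o.X.K) (g' : o.X.K →ₗ[k] o.X.K) (hg : ∀ v, g' v = g v)
    (hT : ∀ T ∈ o.X.DD 1, ∀ v, T (g v) = g (T v))
    (B : Type u) [CommRing B] [Algebra k B] [Module.Flat k B] :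
    ∀ Y ∈ opD (levPkg o.X o.lev hA ψ hψ hcl) B 1, Cm g' ((levOp o hA ψ hψ hcl).κ B Y) := by
  intro Y hY
  have h1 := opD_spec B Y hY
  exact gam_cm (fun _ => rfl) B _ g g' hg fun v => ddx_comm g hT h1 v

/-- **`ESide` from the `H`-comodule structures of the graded pieces** -/
theorem eside_of (c0 : ∀ m : ℕ, HopfRep.Comod k c.H.O (GrF o.X.toOpCpx m))
    (h1 : ∀ (m : ℕ) (B : Type u) [CommRing B] [Algebra k B] [Module.Flat k B] (g : c.H.O →ₐ[k] B),
      ∀ φ ∈ (levPkg o.X o.lev hA ψ hψ hcl).Lift B (mkPt c.H g),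
        Compat (incF (k := k) o.X.toOpCpx m) (mkF o.X.toOpCpx m)
          ((levOp o hA ψ hψ hcl).κ B (φ : (levPkg o.X o.lev hA ψ hψ hcl).AA B))
          (letI := c0 m; K90.op (GrF o.X.toOpCpx m) B g))
    (h2 : ∀ (m : ℕ) (B : Type u) [CommRing B] [Algebra k B] [Module.Flat k B],
      ∀ Y ∈ opD (levPkg o.X o.lev hA ψ hψ hcl) B 1,
        Compat (incF (k := k) o.X.toOpCpx m) (mkF o.X.toOpCpx m) ((levOp o hA ψ hψ hcl).κ B Y) 0)
    (h3 : ∀ (m : ℕ) (q : o.X.Q) (y : o.X.Q ⊗[k] c.H.O), (piK o).rTensor c.H.O y = (c.ρ ⟨0⟩).ρ (piK o q) →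
      ∀ g : GrF o.X.toOpCpx m, (c0 m).coact (q • g) =
        TensorProduct.map₂ (Algebra.lsmul k k (GrF o.X.toOpCpx m)).toLinearMap (LinearMap.mul k c.H.O) y
          ((c0 m).coact g)) : Nonempty (K303.ESide o (descA hA ψ hc)) := by
  obtain ⟨e⟩ := exists_EOut c.kill (descA hA ψ hc) (levOp o hA ψ hψ hcl) (levHyp o hA ψ hψ hcl hc)
  refine ⟨{ E := e.E, ι := e.ι, adm := e.adm, I := e.T.I, coE := e.c, lin := e.lin, equi := e.equi
            co_d := ?_, co_pr := ?_, coH := fun m => letI := c0 m; hCo e.T (GrF o.X.toOpCpx m)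
            compat := ?_, hopf := ?_ }⟩
  · refine e.comm _ (fun B _ _ _ g φ hφ => ?_) (fun B _ _ _ Y hY => ?_)
    · exact lev_cm_lift o hA ψ hψ hcl (o.X.d.restrictScalars _) _ (fun _ => rfl)
        (fun a hx hy ψ hψ v => o.X.L_d a hx hy ψ hψ v) B _ φ hφ
    · exact lev_cm_opD o hA ψ hψ hcl (o.X.d.restrictScalars _) _ (fun _ => rfl)
        (fun T hT v => o.X.DD_d 1 T hT v) B Y hY
  · intro i
    refine e.comm _ (fun B _ _ _ g φ hφ => ?_) (fun B _ _ _ Y hY => ?_)
    · exact lev_cm_lift o hA ψ hψ hcl ((o.X.pr i).restrictScalars _) _ (fun _ => rfl)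
        (fun a hx hy ψ hψ v => o.X.L_pr a hx hy ψ hψ i v) B _ φ hφ
    · exact lev_cm_opD o hA ψ hψ hcl ((o.X.pr i).restrictScalars _) _ (fun _ => rfl)
        (fun T hT v => o.X.DD_pr 1 T hT i v) B Y hY
  · intro m y
    letI := c0 m
    exact e.gr (incF (k := k) o.X.toOpCpx m) (mkF o.X.toOpCpx m) (h1 m) (h2 m) y
  · intro m q y hy g
    letI := c0 m
    exact tensRep_hopf' e.T.R e.T.comul_R e.T.counit_R (GrF o.X.toOpCpx m) q y (h3 m q y hy) g

end Out

end Groth.Agent.ResProp.EF.K918.StmtE
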